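import Groth.Agent.L14.Popescu.Approx
import Mathlib.RingTheory.Flat.EquationalCriterion
import Mathlib.RingTheory.Filtration
import Mathlib.RingTheory.AdicCompletion.AsTensorProduct
import Mathlib.RingTheory.FiniteType

/-!
Finite modifications of completions come from the ring before completion.
-/

set_option autoImplicit false
set_option linter.style.haveILetI false

noncomputable section

namespace Groth.L14.GrApprox

universe u

variable {B S : Type u} [CommRing B] [CommRing S] [Algebra B S]

/-- Solutions in a flat algebra of a homogeneous linear system. -/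
theorem exists_combination_of_relations [Module.Flat B S] {p q : ℕ} (R : Fin q → Fin p → B) (x : Fin p → S)
    (h : ∀ r, ∑ i, R r i • x i = 0) :
    ∃ (t : ℕ) (a : Fin t → Fin p → B) (y : Fin t → S),
      (∀ s r, ∑ i, R r i * a s i = 0) ∧ ∀ i, x i = ∑ s, a s i • y s := by
  classical
  obtain ⟨t, a, y, hxy, ha⟩ := Module.Flat.exists_factorization_of_comp_eq_zero_of_free
    (f := Fintype.linearCombination B R) (x := Fintype.linearCombination B x) (LinearMap.ext fun c => by
      simp only [LinearMap.comp_apply, Fintype.linearCombination_apply, Finset.sum_apply, Finset.sum_smul, smul_assoc,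
        Pi.smul_apply, LinearMap.zero_apply]
      rw [Finset.sum_comm]
      simp [← Finset.smul_sum, h])
  refine ⟨t, fun s i => a (Pi.single i 1) s, fun s => y (Finsupp.single s 1), fun s r => ?_, fun i => ?_⟩
  · have h1 := DFunLike.congr_fun (LinearMap.congr_fun ha (Pi.single r 1)) s
    have h2 : Fintype.linearCombination B R (Pi.single r 1) = ∑ i, R r i • Pi.single i (1 : B) := by
      rw [Fintype.linearCombination_apply_single, one_smul]
      exact pi_eq_sum_univ' (R r)
    rw [LinearMap.comp_apply, h2, map_sum, Finsupp.finsetSum_apply] at h1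
    simpa [Finsupp.smul_apply] using h1
  · have h1 := LinearMap.congr_fun hxy (Pi.single i 1)
    rw [Fintype.linearCombination_apply_single, one_smul, LinearMap.comp_apply] at h1
    rw [h1]
    conv_lhs => rw [← Finsupp.univ_sum_single (a (Pi.single i 1))]
    rw [map_sum]
    refine Finset.sum_congr rfl fun s _ => ?_
    rw [← Finsupp.smul_single_one, map_smul]

variable [IsNoetherianRing B] (𝔞 : Ideal B)

/-- The hypotheses on a ring playing the role of the completion. -/
structure IsComplLike : Prop where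
  flat : Module.Flat B S
  den : ∀ (n : ℕ) (s : S), ∃ b : B, s - algebraMap B S b ∈ (𝔞 ^ n).map (algebraMap B S)
  ker : ∀ (n : ℕ) (b : B), algebraMap B S b ∈ (𝔞 ^ n).map (algebraMap B S) → b ∈ 𝔞 ^ n

variable {𝔞}

theorem mem_range_of_killed (h : IsComplLike (S := S) 𝔞) (m : ℕ) (s : S)
    (hs : ∀ l ∈ 𝔞 ^ m, algebraMap B S l * s = 0) : s ∈ Set.range (algebraMap B S) := by
  haveI := h.flat
  obtain ⟨r, l, hl⟩ := Submodule.fg_iff_exists_fin_generating_family.mp (IsNoetherian.noetherian (𝔞 ^ m))
  obtain ⟨t, a, y, ha, hx⟩ := exists_combination_of_relations (fun k (_ : Fin 1) => l k) (fun _ => s) fun k => by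
    rw [Fin.sum_univ_one, Algebra.smul_def]
    exact hs _ (hl.le (Submodule.subset_span ⟨k, rfl⟩))
  have hkill : ∀ u, ∀ w ∈ 𝔞 ^ m, w * a u 0 = 0 := fun u w hw => by
    obtain ⟨c, rfl⟩ := (Submodule.mem_span_range_iff_exists_fun B).mp (hl.ge hw)
    rw [Finset.sum_mul]
    refine Finset.sum_eq_zero fun k _ => ?_
    have := ha u k
    rw [Fin.sum_univ_one] at this
    rw [smul_eq_mul, mul_assoc, this, mul_zero]
  have hkillS : ∀ u, ∀ w ∈ (𝔞 ^ m).map (algebraMap B S), w * algebraMap B S (a u 0) = 0 := fun u w hw => by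
    induction hw using Submodule.span_induction with
    | mem x hx => obtain ⟨b, hb, rfl⟩ := hx; rw [← map_mul, hkill u b hb, map_zero]
    | zero => rw [zero_mul]
    | add x y _ _ hx hy => rw [add_mul, hx, hy, add_zero]
    | smul c x _ hx => rw [smul_eq_mul, mul_assoc, hx, mul_zero]
  choose b hb using fun u => h.den m (y u)
  refine ⟨∑ u, a u 0 * b u, ?_⟩
  rw [hx 0, map_sum]
  refine Finset.sum_congr rfl fun u _ => ?_
  have h1 := hkillS u _ (hb u)
  rw [sub_mul, sub_eq_zero] at h1
  rw [map_mul, Algebra.smul_def, mul_comm _ (y u), h1, mul_comm]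

/-- The image of the ring is saturated with respect to the powers of the ideal. -/
theorem mem_range_of_mul_mem (h : IsComplLike (S := S) 𝔞) (m : ℕ) (s : S)
    (hs : ∀ l ∈ 𝔞 ^ m, algebraMap B S l * s ∈ Set.range (algebraMap B S)) : s ∈ Set.range (algebraMap B S) := by
  classical
  obtain ⟨r, l, hl⟩ := Submodule.fg_iff_exists_fin_generating_family.mp (IsNoetherian.noetherian (𝔞 ^ m))
  choose b hb using fun k => hs (l k) (hl.le (Submodule.subset_span ⟨k, rfl⟩))
  let N : Submodule B (Fin r → B) := Submodule.span B {l}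
  have hq : Submodule.Quotient.mk (p := N) b ∈ ⨅ n, 𝔞 ^ n • (⊤ : Submodule B ((Fin r → B) ⧸ N)) := by
    rw [Submodule.mem_iInf]
    intro n
    obtain ⟨x, hx⟩ := h.den n s
    have h1 : ∀ k, b k - x * l k ∈ 𝔞 ^ n := fun k => h.ker n _ (by
      rw [map_sub, hb, map_mul, mul_comm (algebraMap B S x), ← mul_sub]
      exact Ideal.mul_mem_left _ _ hx)
    have h2 : b - x • l ∈ 𝔞 ^ n • (⊤ : Submodule B (Fin r → B)) := by
      rw [pi_eq_sum_univ' (b - x • l)]
      exact Submodule.sum_mem _ fun k _ => Submodule.smul_mem_smul (h1 k) trivial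
    have h3 := Submodule.mem_map_of_mem (f := N.mkQ) h2
    rw [Submodule.map_smul'', Submodule.map_top, Submodule.range_mkQ, map_sub, map_smul] at h3
    rw [show N.mkQ l = 0 from (Submodule.Quotient.mk_eq_zero N).mpr (Submodule.subset_span rfl), smul_zero,
      sub_zero] at h3
    exact h3
  obtain ⟨⟨a, ha⟩, hab⟩ := (Ideal.mem_iInf_smul_pow_eq_bot_iff 𝔞 _).mp hq
  obtain ⟨x₀, hx₀⟩ : ∃ x₀, ∀ k, x₀ * l k = (1 - a) * b k := by
    have h1 : (1 - a) • b ∈ N := by
      rw [← Submodule.Quotient.mk_eq_zero N, Submodule.Quotient.mk_smul, sub_smul, one_smul]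
      exact sub_eq_zero.mpr hab.symm
    obtain ⟨x₀, hx₀⟩ := Submodule.mem_span_singleton.mp h1
    exact ⟨x₀, fun k => congrFun hx₀ k⟩
  have hqs : algebraMap B S (1 - a) * s ∈ Set.range (algebraMap B S) := by
    have h1 : algebraMap B S (1 - a) * s - algebraMap B S x₀ ∈ Set.range (algebraMap B S) := by
      refine mem_range_of_killed h m _ fun w hw => ?_
      obtain ⟨c, rfl⟩ := (Submodule.mem_span_range_iff_exists_fun B).mp (hl.ge hw)
      rw [map_sum, Finset.sum_mul]
      refine Finset.sum_eq_zero fun k _ => ?_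
      have h2 := congrArg (algebraMap B S) (hx₀ k)
      rw [map_mul, map_mul, hb] at h2
      rw [smul_eq_mul, map_mul]
      linear_combination (-algebraMap B S (c k)) * h2
    obtain ⟨z, hz⟩ := h1
    exact ⟨z + x₀, by rw [map_add, hz, sub_add_cancel]⟩
  obtain ⟨z, hz⟩ := hqs
  obtain ⟨z', hz'⟩ := hs (a ^ m) (Ideal.pow_mem_pow ha m)
  refine ⟨(∑ i ∈ Finset.range m, a ^ i) * z + z', ?_⟩
  rw [map_add, map_mul, hz, hz', ← mul_assoc, ← map_mul, geom_sum_mul_neg, ← add_mul, ← map_add, sub_add_cancel,
    map_one, one_mul]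

variable {E : Type u} [CommRing E]

set_option maxHeartbeats 1000000 in
/-- A finite modification of the completion descends. -/
theorem exists_descended_modification (h : IsComplLike (S := S) 𝔞) (β : S →+* E) (hβ : β.Finite) (m : ℕ)
    (hk : ∀ l ∈ 𝔞 ^ m, ∀ s, β s = 0 → algebraMap B S l * s = 0)
    (hc : ∀ l ∈ 𝔞 ^ m, ∀ e : E, β (algebraMap B S l) * e ∈ Set.range β) :
    letI := (β.comp (algebraMap B S)).toAlgebra
    ∃ D : Subalgebra B E, Algebra.FiniteType B D ∧
      (∀ (n : ℕ) (e : E), ∃ d ∈ D, e - d ∈ (𝔞 ^ n).map (algebraMap B E)) ∧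
      ∀ (n : ℕ) (d : D), (d : E) ∈ (𝔞 ^ n).map (algebraMap B E) → d ∈ (𝔞 ^ n).map (algebraMap B D) := by
  letI := (β.comp (algebraMap B S)).toAlgebra
  haveI := h.flat
  classical
  have hle2 : 𝔞 ^ (m + m) ≤ 𝔞 ^ m := Ideal.pow_le_pow_right (Nat.le_add_left m m)
  have hker : ∀ s, β s = 0 → s ∈ Set.range (algebraMap B S) := fun s hs =>
    mem_range_of_killed h m s fun l hl => hk l hl s hs
  have hsat : ∀ (n : ℕ) (s : S), (∀ l ∈ 𝔞 ^ n, β (algebraMap B S l * s) ∈ Set.range (algebraMap B E)) →
      s ∈ Set.range (algebraMap B S) := fun n s hs => mem_range_of_mul_mem h n s fun l hl => by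
    obtain ⟨b, hb⟩ := hs l hl
    obtain ⟨b', hb'⟩ := hker (algebraMap B S l * s - algebraMap B S b) (by
      rw [map_sub, sub_eq_zero]; exact hb.symm)
    exact ⟨b + b', by rw [map_add, hb', add_sub_cancel]⟩
  let P : E → Prop := fun e => ∀ l ∈ 𝔞 ^ (m + m), algebraMap B E l * e ∈ Set.range (algebraMap B E)
  have hPmul : ∀ d d', P d → P d' → P (d * d') := fun d d' hd hd' l hl => by
    obtain ⟨s, hs⟩ := hc l (hle2 hl) (d * d')
    obtain ⟨b, rfl⟩ := hsat (m + m) s fun l' hl' => by
      obtain ⟨b, hb⟩ := hd l hl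
      obtain ⟨b', hb'⟩ := hd' l' hl'
      refine ⟨b * b', ?_⟩
      rw [map_mul, hb, hb', map_mul, hs]
      show _ = algebraMap B E l' * (algebraMap B E l * (d * d'))
      ring
    exact ⟨b, hs⟩
  let D : Subalgebra B E :=
    { carrier := {e | P e}
      mul_mem' := fun {d d'} hd hd' => hPmul d d' hd hd'
      add_mem' := fun {d d'} hd hd' l hl => by
        obtain ⟨b, hb⟩ := hd l hl
        obtain ⟨b', hb'⟩ := hd' l hl
        exact ⟨b + b', by rw [map_add, hb, hb', mul_add]⟩
      algebraMap_mem' := fun b l _ => ⟨l * b, map_mul _ _ _⟩ }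
  have hmemβ : ∀ s, β s ∈ D → s ∈ Set.range (algebraMap B S) := fun s hs => hsat (m + m) s fun l hl => by
    rw [map_mul]
    exact hs l hl
  obtain ⟨r, g, hg⟩ := Submodule.fg_iff_exists_fin_generating_family.mp (IsNoetherian.noetherian (𝔞 ^ m))
  let p := r * r
  let idx : Fin p → Fin r × Fin r := finProdFinEquiv.symm
  let l : Fin p → B := fun i => g (idx i).1 * g (idx i).2
  have hlspan : 𝔞 ^ (m + m) ≤ Ideal.span (Set.range l) := by
    rw [pow_add, ← hg, Ideal.span_mul_span']
    refine Ideal.span_le.mpr ?_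
    rintro _ ⟨_, ⟨i, rfl⟩, _, ⟨j, rfl⟩, rfl⟩
    refine Ideal.subset_span ⟨finProdFinEquiv (i, j), ?_⟩
    show g (finProdFinEquiv.symm (finProdFinEquiv (i, j))).1 * g (finProdFinEquiv.symm (finProdFinEquiv (i, j))).2 = _
    rw [Equiv.symm_apply_apply]
  have hstep : ∀ e : E, ∃ z : S, P (e - β z) := by
    intro e
    choose x hx using fun k => hc (g k) (hg.le (Submodule.subset_span ⟨k, rfl⟩)) e
    let X : Fin p → S := fun i => algebraMap B S (g (idx i).1) * x (idx i).2
    have hX : ∀ i, β (X i) = algebraMap B E (l i) * e := fun i => by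
      show β (_ * _) = β (algebraMap B S (g (idx i).1 * g (idx i).2)) * e
      rw [map_mul, hx, map_mul, map_mul, mul_assoc]
    have hrel : ∀ i j, algebraMap B S (l j) * X i = algebraMap B S (l i) * X j := fun i j => by
      have h1 : β (algebraMap B S (g (idx j).2) * x (idx i).2 - algebraMap B S (g (idx i).2) * x (idx j).2) = 0 := by
        rw [map_sub, map_mul, map_mul, hx, hx]
        ring
      have h2 := hk (g (idx i).1) (hg.le (Submodule.subset_span ⟨_, rfl⟩)) _ h1
      simp only [X, l, map_mul]
      linear_combination (algebraMap B S (g (idx j).1)) * h2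
    let R : Fin (p * p) → Fin p → B := fun u k =>
      (if k = (finProdFinEquiv.symm u).1 then l (finProdFinEquiv.symm u).2 else 0) -
        (if k = (finProdFinEquiv.symm u).2 then l (finProdFinEquiv.symm u).1 else 0)
    obtain ⟨t, a, y, ha, hay⟩ := exists_combination_of_relations R X fun u => by
      simp only [R, map_sub, sub_mul, Finset.sum_sub_distrib, apply_ite (algebraMap B S), map_zero, ite_mul, zero_mul,
        Finset.sum_ite_eq', Finset.mem_univ, if_true, Algebra.smul_def]
      rw [hrel, sub_self]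
    have harel : ∀ s i j, l j * a s i = l i * a s j := fun s i j => by
      have := ha s (finProdFinEquiv (i, j))
      simp only [R, Equiv.symm_apply_apply, sub_mul, Finset.sum_sub_distrib, ite_mul, zero_mul, Finset.sum_ite_eq',
        Finset.mem_univ, if_true, sub_eq_zero] at this
      exact this
    have hden' : ∀ u, ∃ (b : B) (c : Fin p → S), y u = algebraMap B S b + ∑ k, algebraMap B S (l k) * c k := fun u => by
      obtain ⟨b, hb⟩ := h.den (m + m) (y u)
      have h1 := Ideal.map_mono (f := algebraMap B S) hlspan hb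
      rw [Ideal.map_span, ← Set.range_comp] at h1
      obtain ⟨c, hc'⟩ := (Submodule.mem_span_range_iff_exists_fun S).mp h1
      refine ⟨b, c, ?_⟩
      rw [show ∑ k, algebraMap B S (l k) * c k = ∑ k, c k • (algebraMap B S ∘ l) k from
        Finset.sum_congr rfl fun k _ => mul_comm _ _, hc', add_sub_cancel]
    choose b c hbc using hden'
    refine ⟨∑ u, ∑ k, algebraMap B S (a u k) * c u k, fun w hw => ?_⟩
    obtain ⟨d, hd⟩ := (Submodule.mem_span_range_iff_exists_fun B).mp (hlspan hw)
    refine ⟨∑ i, d i * ∑ u, a u i * b u, ?_⟩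
    rw [← hd, map_sum, map_sum, Finset.sum_mul]
    refine Finset.sum_congr rfl fun i _ => ?_
    rw [smul_eq_mul, map_mul, map_mul, mul_assoc]
    congr 1
    rw [mul_sub, ← hX, hay]
    show β (algebraMap B S _) = _ - β (algebraMap B S (l i)) * β _
    rw [← map_mul β, ← map_sub β]
    congr 1
    simp only [map_sum, Finset.mul_sum, map_mul, Algebra.smul_def]
    rw [← Finset.sum_sub_distrib]
    refine Finset.sum_congr rfl fun u _ => ?_
    rw [hbc u, mul_add, add_sub_assoc, Finset.mul_sum, ← Finset.sum_sub_distrib, Finset.sum_eq_zero fun k _ => ?_,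
      add_zero]
    have h1 := congrArg (algebraMap B S) (harel u i k)
    rw [map_mul, map_mul] at h1
    simp only [l, map_mul] at h1 ⊢
    linear_combination (c u k) * h1
  letI algSE : Algebra S E := β.toAlgebra
  haveI : IsScalarTower B S E := IsScalarTower.of_algebraMap_eq' rfl
  haveI : Module.Finite S E := hβ
  obtain ⟨q, e₀, he₀⟩ := Submodule.fg_iff_exists_fin_generating_family.mp (Module.Finite.fg_top (R := S) (M := E))
  choose z hz using fun t => hstep (e₀ t)
  let e' : Fin q → D := fun t => ⟨e₀ t - β (z t), hz t⟩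
  refine ⟨D, ?_, fun n e => ?_, fun n d hd => ?_⟩
  · haveI : Module.Finite B D := by
      refine ⟨Submodule.fg_iff_exists_fin_generating_family.mpr ⟨q + 1, Fin.snoc e' 1, eq_top_iff.mpr fun d _ => ?_⟩⟩
      obtain ⟨s, hs⟩ := (Submodule.mem_span_range_iff_exists_fun S).mp (he₀.ge (trivial : (d : E) ∈ ⊤))
      choose bs hbs using fun t => h.den (m + m) (s t)
      have hrest : ∀ w ∈ (𝔞 ^ (m + m)).map (algebraMap B S), ∀ x : D, β w * (x : E) ∈ Set.range β := by
        intro w hw x
        induction hw using Submodule.span_induction with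
        | mem v hv =>
          obtain ⟨b, hb, rfl⟩ := hv
          obtain ⟨b', hb'⟩ := x.2 b hb
          exact ⟨algebraMap B S b', hb'⟩
        | zero => exact ⟨0, by simp⟩
        | add u v _ _ hu hv =>
          obtain ⟨u', hu'⟩ := hu
          obtain ⟨v', hv'⟩ := hv
          exact ⟨u' + v', by rw [map_add, map_add, hu', hv', add_mul]⟩
        | smul a v _ hv =>
          obtain ⟨v', hv'⟩ := hv
          exact ⟨a * v', by rw [smul_eq_mul, map_mul, map_mul, hv', mul_assoc]⟩
      choose w hw using fun t => hrest _ (hbs t) (e' t)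
      have hd : (d : E) = ((∑ t, bs t • e' t : D) : E) + β (∑ t, (w t + s t * z t)) := by
        rw [← hs, AddSubmonoidClass.coe_finsetSum, map_sum, ← Finset.sum_add_distrib]
        refine Finset.sum_congr rfl fun t _ => ?_
        rw [map_add, hw, map_mul, map_sub, SetLike.val_smul, Algebra.smul_def, Algebra.smul_def]
        show β (s t) * e₀ t = β (algebraMap B S (bs t)) * _ + _
        ring
      have hmem : β (∑ t, (w t + s t * z t)) ∈ D := by
        have := D.sub_mem d.2 (∑ t, bs t • e' t : D).2
        rwa [hd, add_sub_cancel_left] at this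
      obtain ⟨b₀, hb₀⟩ := hmemβ _ hmem
      have hd' : d = ∑ t, bs t • e' t + b₀ • (1 : D) := Subtype.ext (by
        rw [Subalgebra.coe_add, hd, ← hb₀, SetLike.val_smul, Subalgebra.coe_one, Algebra.smul_def, mul_one]
        rfl)
      rw [hd']
      refine Submodule.add_mem _ (Submodule.sum_mem _ fun t _ => Submodule.smul_mem _ _ (Submodule.subset_span
        ⟨t.castSucc, Fin.snoc_castSucc ..⟩)) (Submodule.smul_mem _ _ (Submodule.subset_span ⟨Fin.last q, Fin.snoc_last ..⟩))
    infer_instance
  · obtain ⟨z₁, hz₁⟩ := hstep e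
    obtain ⟨b, hb⟩ := h.den n z₁
    refine ⟨(e - β z₁) + algebraMap B E b, D.add_mem hz₁ (D.algebraMap_mem b), ?_⟩
    rw [← sub_sub, sub_sub_cancel]
    show β z₁ - β (algebraMap B S b) ∈ _
    rw [← map_sub, show (𝔞 ^ n).map (algebraMap B E) = ((𝔞 ^ n).map (algebraMap B S)).map β from (Ideal.map_map _ _).symm]
    exact Ideal.mem_map_of_mem β hb
  · have key : ∀ x ∈ (𝔞 ^ n).map (algebraMap B E),
        ∃ d' : D, ∃ s ∈ (𝔞 ^ n).map (algebraMap B S), d' ∈ (𝔞 ^ n).map (algebraMap B D) ∧ x = (d' : E) + β s := by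
      intro x hx
      induction hx using Submodule.span_induction with
      | mem v hv =>
        obtain ⟨b, hb, rfl⟩ := hv
        exact ⟨algebraMap B D b, 0, zero_mem _, Ideal.mem_map_of_mem _ hb, by rw [map_zero, add_zero]; rfl⟩
      | zero => exact ⟨0, 0, zero_mem _, zero_mem _, by simp⟩
      | add u v _ _ hu hv =>
        obtain ⟨d₁, s₁, hs₁, hd₁, rfl⟩ := hu
        obtain ⟨d₂, s₂, hs₂, hd₂, rfl⟩ := hv
        exact ⟨d₁ + d₂, s₁ + s₂, add_mem hs₁ hs₂, add_mem hd₁ hd₂, by rw [map_add, Subalgebra.coe_add]; ring⟩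
      | smul f v _ hv =>
        obtain ⟨d₁, s₁, hs₁, hd₁, rfl⟩ := hv
        obtain ⟨z₁, hz₁⟩ := hstep f
        suffices ∀ x ∈ (𝔞 ^ n).map (algebraMap B D), ∀ y, y = (x : E) →
            ∃ d' : D, ∃ s ∈ (𝔞 ^ n).map (algebraMap B S), d' ∈ (𝔞 ^ n).map (algebraMap B D) ∧
              β z₁ * y = (d' : E) + β s by
          obtain ⟨d₂, s₂, hs₂, hd₂, h₂⟩ := this d₁ hd₁ _ rfl
          have hdec : ∀ w ∈ (𝔞 ^ n).map (algebraMap B S), ∃ d' : D, ∃ s ∈ (𝔞 ^ n).map (algebraMap B S),
              d' ∈ (𝔞 ^ n).map (algebraMap B D) ∧ (f - β z₁) * β w = (d' : E) + β s := by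
            intro w hw
            induction hw using Submodule.span_induction with
            | mem v hv =>
              obtain ⟨b, hb, rfl⟩ := hv
              refine ⟨algebraMap B D b * ⟨_, hz₁⟩, 0, zero_mem _, Ideal.mul_mem_right _ _ (Ideal.mem_map_of_mem _ hb), ?_⟩
              rw [map_zero, add_zero, Subalgebra.coe_mul, mul_comm]
              rfl
            | zero => exact ⟨0, 0, zero_mem _, zero_mem _, by simp⟩
            | add u v _ _ hu hv =>
              obtain ⟨du, su, hsu, hdu, hu⟩ := hu
              obtain ⟨dv, sv, hsv, hdv, hv⟩ := hv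
              exact ⟨du + dv, su + sv, add_mem hsu hsv, add_mem hdu hdv, by
                rw [map_add, mul_add, hu, hv, map_add, Subalgebra.coe_add]; ring⟩
            | smul a v hvm hv =>
              obtain ⟨dv, sv, hsv, hdv, hv⟩ := hv
              obtain ⟨ba, hba⟩ := h.den (m + m) a
              have hrest : ∀ u ∈ (𝔞 ^ (m + m)).map (algebraMap B S), ∃ s' : S, (f - β z₁) * β u = β s' := by
                intro u hu
                induction hu using Submodule.span_induction with
                | mem v hv =>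
                  obtain ⟨b, hb, rfl⟩ := hv
                  obtain ⟨b', hb'⟩ := hz₁ b hb
                  exact ⟨algebraMap B S b', by rw [mul_comm]; exact hb'.symm⟩
                | zero => exact ⟨0, by simp⟩
                | add u v _ _ hu hv =>
                  obtain ⟨u', hu'⟩ := hu
                  obtain ⟨v', hv'⟩ := hv
                  exact ⟨u' + v', by rw [map_add, mul_add, hu', hv', map_add]⟩
                | smul a v _ hv =>
                  obtain ⟨v', hv'⟩ := hv
                  exact ⟨a * v', by rw [smul_eq_mul, map_mul, map_mul, ← hv']; ring⟩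
              obtain ⟨s', hs'⟩ := hrest _ hba
              refine ⟨ba • dv, algebraMap B S ba * sv + s' * v, add_mem (Ideal.mul_mem_left _ _ hsv)
                (Ideal.mul_mem_left _ _ hvm), Submodule.smul_of_tower_mem _ _ hdv, ?_⟩
              rw [map_sub] at hs'
              rw [SetLike.val_smul, smul_eq_mul, Algebra.smul_def, map_mul, map_add, map_mul, map_mul]
              show _ = β (algebraMap B S ba) * (dv : E) + _
              linear_combination (β (algebraMap B S ba)) * hv + (β v) * hs'
          obtain ⟨d₃, s₃, hs₃, hd₃, h₃⟩ := hdec s₁ hs₁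
          refine ⟨⟨_, hz₁⟩ * d₁ + d₂ + d₃, s₂ + s₃ + z₁ * s₁, add_mem (add_mem hs₂ hs₃) (Ideal.mul_mem_left _ _ hs₁),
            add_mem (add_mem (Ideal.mul_mem_left _ _ hd₁) hd₂) hd₃, ?_⟩
          rw [smul_eq_mul, Subalgebra.coe_add, Subalgebra.coe_add, Subalgebra.coe_mul, map_add, map_add, map_mul]
          show _ = (f - β z₁) * (d₁ : E) + _ + _ + _
          linear_combination h₂ + h₃
        intro x hx
        induction hx using Submodule.span_induction with
        | mem v hv =>
          obtain ⟨b, hb, rfl⟩ := hv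
          rintro _ rfl
          refine ⟨0, z₁ * algebraMap B S b, Ideal.mul_mem_left _ _ (Ideal.mem_map_of_mem _ hb), zero_mem _, ?_⟩
          rw [map_mul, Subalgebra.coe_zero, zero_add]
          rfl
        | zero => rintro _ rfl; exact ⟨0, 0, zero_mem _, zero_mem _, by simp⟩
        | add u v _ _ hu hv =>
          rintro _ rfl
          obtain ⟨du, su, hsu, hdu, hu⟩ := hu _ rfl
          obtain ⟨dv, sv, hsv, hdv, hv⟩ := hv _ rfl
          exact ⟨du + dv, su + sv, add_mem hsu hsv, add_mem hdu hdv, by
            rw [Subalgebra.coe_add, mul_add, hu, hv, map_add, Subalgebra.coe_add]; ring⟩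
        | smul a v _ hv =>
          rintro _ rfl
          obtain ⟨dv, sv, hsv, hdv, hv⟩ := hv _ rfl
          obtain ⟨ba, hba⟩ := h.den (m + m) (0 : S)
          have hcoef : ∀ w ∈ (𝔞 ^ n).map (algebraMap B S), ∃ d' : D, ∃ s ∈ (𝔞 ^ n).map (algebraMap B S),
              d' ∈ (𝔞 ^ n).map (algebraMap B D) ∧ (a : E) * β w = (d' : E) + β s := by
            intro w hw
            induction hw using Submodule.span_induction with
            | mem v hv =>
              obtain ⟨b, hb, rfl⟩ := hv
              refine ⟨algebraMap B D b * a, 0, zero_mem _, Ideal.mul_mem_right _ _ (Ideal.mem_map_of_mem _ hb), ?_⟩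
              rw [map_zero, add_zero, Subalgebra.coe_mul, mul_comm]
              rfl
            | zero => exact ⟨0, 0, zero_mem _, zero_mem _, by simp⟩
            | add u v _ _ hu hv =>
              obtain ⟨du, su, hsu, hdu, hu⟩ := hu
              obtain ⟨dw, sw, hsw, hdw, hv⟩ := hv
              exact ⟨du + dw, su + sw, add_mem hsu hsw, add_mem hdu hdw, by
                rw [map_add, mul_add, hu, hv, map_add, Subalgebra.coe_add]; ring⟩
            | smul c u hum hu =>
              obtain ⟨du, su, hsu, hdu, hu⟩ := hu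
              obtain ⟨bc, hbc⟩ := h.den (m + m) c
              have hrest : ∀ u' ∈ (𝔞 ^ (m + m)).map (algebraMap B S), ∃ s' : S, (a : E) * β u' = β s' := by
                intro u' hu'
                induction hu' using Submodule.span_induction with
                | mem v hv =>
                  obtain ⟨b, hb, rfl⟩ := hv
                  obtain ⟨b', hb'⟩ := a.2 b hb
                  exact ⟨algebraMap B S b', by rw [mul_comm]; exact hb'.symm⟩
                | zero => exact ⟨0, by simp⟩
                | add u v _ _ hu hv =>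
                  obtain ⟨u', hu'⟩ := hu
                  obtain ⟨v', hv'⟩ := hv
                  exact ⟨u' + v', by rw [map_add, mul_add, hu', hv', map_add]⟩
                | smul a' v _ hv =>
                  obtain ⟨v', hv'⟩ := hv
                  exact ⟨a' * v', by rw [smul_eq_mul, map_mul, map_mul, ← hv']; ring⟩
              obtain ⟨s', hs'⟩ := hrest _ hbc
              refine ⟨bc • du, algebraMap B S bc * su + s' * u, add_mem (Ideal.mul_mem_left _ _ hsu)
                (Ideal.mul_mem_left _ _ hum), Submodule.smul_of_tower_mem _ _ hdu, ?_⟩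
              rw [map_sub] at hs'
              rw [SetLike.val_smul, smul_eq_mul, Algebra.smul_def, map_mul, map_add, map_mul, map_mul]
              show _ = β (algebraMap B S bc) * (du : E) + _
              linear_combination (β (algebraMap B S bc)) * hu + (β u) * hs'
          obtain ⟨d₄, s₄, hs₄, hd₄, h₄⟩ := hcoef sv hsv
          refine ⟨a * dv + d₄, s₄, hs₄, add_mem (Ideal.mul_mem_left _ _ hdv) hd₄, ?_⟩
          rw [smul_eq_mul, Subalgebra.coe_mul, Subalgebra.coe_add, Subalgebra.coe_mul]
          linear_combination (a : E) * hv + h₄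
    obtain ⟨d', s, hs, hd', hds⟩ := key d hd
    have hmem : β s ∈ D := by
      have := D.sub_mem d.2 d'.2
      rwa [hds, add_sub_cancel_left] at this
    obtain ⟨b₀, rfl⟩ := hmemβ s hmem
    have hdb : d = d' + algebraMap B D b₀ := Subtype.ext hds
    rw [hdb]
    exact add_mem hd' (Ideal.mem_map_of_mem _ (h.ker n b₀ hs))

end Groth.L14.GrApprox
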