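import Groth.Agent.L14.GrApprox.GrIso
import Groth.Agent.L14.Popescu.Functor
import Groth.Agent.L01.CohenRing
import Groth.Agent.L05.AdicGr.Ring
import Groth.Agent.S0599
import Groth.Agent.S0598
import Groth.Agent.S0600
import Mathlib.RingTheory.ReesAlgebra
import Mathlib.RingTheory.MvPolynomial.Ideal
import Mathlib.RingTheory.Etale.Basic

/-!
Algebraic approximation of complete local rings with an element of a finitary functor.
-/

set_option autoImplicit false
set_option linter.style.haveILetI false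

noncomputable section

open CategoryTheory CategoryTheory.Limits IsLocalRing

namespace Groth.L14.GrApprox

universe u

/-- An element of a finitary functor on algebras comes from a finitely presented algebra. -/
theorem exists_rep_commAlg {k : Type u} [CommRing k] (F : CommAlgCat.{u} k ⥤ Type u)
    (hF : ∀ (J : Type u) [SmallCategory J] [IsFiltered J], PreservesColimitsOfShape J F)
    {R : Type u} [CommRing R] [Algebra k R] (ξ : F.obj (CommAlgCat.of k R)) :
    ∃ (C : Type u) (_ : CommRing C) (_ : Algebra k C) (_ : Algebra.FinitePresentation k C) (φ : C →ₐ[k] R)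
      (ξ₀ : F.obj (CommAlgCat.of k C)), F.map (CommAlgCat.ofHom φ) ξ₀ = ξ := by
  let e := commAlgCatEquivUnder (CommRingCat.of k)
  let η := e.unitIso
  obtain ⟨C, iC, iA, hC, φ, ξ₀, h⟩ := Groth.L14.Popescu.exists_rep (A := k) (B := R) (e.inverse ⋙ F)
    (fun J _ _ => by haveI := hF J; infer_instance) (F.map (η.hom.app (CommAlgCat.of k R)) ξ)
  refine ⟨C, iC, iA, hC, φ, F.map (η.inv.app (CommAlgCat.of k C)) ξ₀, ?_⟩
  refine (Groth.L14.Popescu.transport_equiv e F (X := CommAlgCat.of k C) (CommAlgCat.ofHom φ) (𝟙 _) ξ ξ₀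
    (h.trans ?_)).trans ?_
  · rw [e.functor.map_id, e.inverse.map_id, F.map_id]
    rfl
  · rw [F.map_id]
    rfl

/-- Approximating an ideal by the ideal of a ring mapping onto its first truncation. -/
theorem exists_step {P B : Type u} [CommRing P] [CommRing B] (φ : P →+* B) (I : Ideal P) (K : Ideal B)
    (hres : ∀ b : B, ∃ p, b - φ p ∈ K) (hIK : I.map φ ≤ K) (hK : K ≤ I.map φ ⊔ K ^ 2) :
    ∀ n, ∀ b ∈ K ^ n, ∃ p ∈ I ^ n, b - φ p ∈ K ^ (n + 1) := by
  have hpow : ∀ n, K ^ n ≤ (I ^ n).map φ ⊔ K ^ (n + 1) := by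
    intro n
    induction n with
    | zero => simp [Ideal.map_top]
    | succ n ih =>
      rw [pow_succ K n]
      refine (Ideal.mul_mono ih hK).trans ?_
      have h1 : (I ^ n).map φ * K ^ 2 ≤ K ^ (n + 1 + 1) :=
        (Ideal.mul_mono ((Ideal.map_pow φ I n).trans_le (Ideal.pow_right_mono hIK n)) le_rfl).trans
          (by rw [← pow_add])
      have h2 : K ^ (n + 1) * I.map φ ≤ K ^ (n + 1 + 1) :=
        (Ideal.mul_mono le_rfl hIK).trans (pow_succ K (n + 1)).ge
      have h3 : K ^ (n + 1) * K ^ 2 ≤ K ^ (n + 1 + 1) := by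
        rw [← pow_add]; exact Ideal.pow_le_pow_right (by omega)
      rw [Ideal.sup_mul, Ideal.mul_sup, Ideal.mul_sup, ← Ideal.map_mul, ← pow_succ]
      exact sup_le (sup_le le_sup_left (h1.trans le_sup_right)) ((sup_le h2 h3).trans le_sup_right)
  intro n b hb
  obtain ⟨y, hy, z, hz, rfl⟩ := Submodule.mem_sup.mp (hpow n hb)
  suffices ∃ p ∈ I ^ n, y - φ p ∈ K ^ (n + 1) by
    obtain ⟨p, hp, hyp⟩ := this
    refine ⟨p, hp, ?_⟩
    rw [show y + z - φ p = (y - φ p) + z by ring]
    exact Ideal.add_mem _ hyp hz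
  clear hb
  induction hy using Submodule.span_induction with
  | mem x hx =>
    obtain ⟨p, hp, rfl⟩ := hx
    exact ⟨p, hp, by rw [sub_self]; exact zero_mem _⟩
  | zero => exact ⟨0, zero_mem _, by rw [map_zero, sub_self]; exact zero_mem _⟩
  | add x y _ _ hx hy =>
    obtain ⟨p, hp, h⟩ := hx
    obtain ⟨q, hq, h'⟩ := hy
    exact ⟨p + q, add_mem hp hq, by rw [map_add, add_sub_add_comm]; exact add_mem h h'⟩
  | smul a x _ hx =>
    obtain ⟨p, hp, h⟩ := hx
    obtain ⟨c, hc⟩ := hres a
    refine ⟨c * p, Ideal.mul_mem_left _ _ hp, ?_⟩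
    rw [smul_eq_mul, map_mul, show a * x - φ c * φ p = a * (x - φ p) + (a - φ c) * φ p by ring]
    refine Ideal.add_mem _ (Ideal.mul_mem_left _ _ h) ?_
    rw [pow_succ']
    exact Ideal.mul_mem_mul hc (Ideal.pow_right_mono hIK n (Ideal.map_pow φ I n ▸ Ideal.mem_map_of_mem φ hp))

/-- A tower of approximations. -/
theorem exists_sub_mem {P B : Type u} [CommRing P] [CommRing B] (φ : P →+* B) {I : Ideal P} {K : Ideal B}
    (h : ∀ n, ∀ b ∈ K ^ n, ∃ p ∈ I ^ n, b - φ p ∈ K ^ (n + 1)) (n : ℕ) (b : B) : ∃ p, b - φ p ∈ K ^ n := by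
  induction n with
  | zero => exact ⟨0, by rw [pow_zero, Ideal.one_eq_top]; trivial⟩
  | succ n ih =>
    obtain ⟨p, hp⟩ := ih
    obtain ⟨q, -, hq⟩ := h n _ hp
    exact ⟨p + q, by rw [map_add, ← sub_sub]; exact hq⟩

set_option maxHeartbeats 1000000 in
/-- An etale algebra over the polynomials with a point in the completion has the truncations of the completion. -/
theorem exists_etale_truncations {k : Type u} [Field k] {d : ℕ} {A' : Type u} [CommRing A']
    [Algebra (MvPolynomial (Fin d) k) A'] [Algebra.Etale (MvPolynomial (Fin d) k) A']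
    (ψ : A' →ₐ[MvPolynomial (Fin d) k]
      AdicCompletion (MvPolynomial.idealOfVars (Fin d) k) (MvPolynomial (Fin d) k)) :
    let M := (MvPolynomial.idealOfVars (Fin d) k).map
      (algebraMap (MvPolynomial (Fin d) k) (AdicCompletion (MvPolynomial.idealOfVars (Fin d) k) (MvPolynomial (Fin d) k)))
    (∀ (a : A'), ∃ c : k, a - algebraMap (MvPolynomial (Fin d) k) A' (MvPolynomial.C c) ∈ M.comap ψ.toRingHom) ∧
    (∀ (n : ℕ) (t : AdicCompletion (MvPolynomial.idealOfVars (Fin d) k) (MvPolynomial (Fin d) k)),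
      ∃ a : A', t - ψ a ∈ M ^ n) ∧
    ∀ (n : ℕ) (a : A'), ψ a ∈ M ^ n ↔ a ∈ (M.comap ψ.toRingHom) ^ n := by
  intro M
  let P := MvPolynomial (Fin d) k
  let I := MvPolynomial.idealOfVars (Fin d) k
  let S := AdicCompletion I P
  let u : Ideal A' := M.comap ψ.toRingHom
  have hI : I.FG := IsNoetherian.noetherian _
  have hM : ∀ (n : ℕ) (x : S), x ∈ M ^ n ↔ AdicCompletion.evalₐ I n x = 0 := fun n x => by
    rw [Popescu.evalₐ_eq_zero_iff hI, Ideal.map_pow]
  have hpoly : ∀ (p : P), p - MvPolynomial.C (MvPolynomial.constantCoeff p) ∈ I := fun p => by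
    rw [← pow_one I, MvPolynomial.mem_pow_idealOfVars_iff']
    intro x hx
    rw [(Finsupp.degree_eq_zero_iff x).mp (by omega), MvPolynomial.coeff_sub, MvPolynomial.coeff_zero_C,
      MvPolynomial.constantCoeff_eq, sub_self]
  have hS : ∀ (n : ℕ) (t : S), ∃ p : P, t - algebraMap P S p ∈ M ^ n := fun n t => by
    obtain ⟨p, hp⟩ := Ideal.Quotient.mk_surjective (AdicCompletion.evalₐ I n t)
    exact ⟨p, by rw [hM, map_sub, AlgHom.commutes, Ideal.Quotient.algebraMap_eq, hp, sub_self]⟩
  have hden : ∀ (n : ℕ) (t : S), ∃ a : A', t - ψ a ∈ M ^ n := fun n t => by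
    obtain ⟨p, hp⟩ := hS n t
    exact ⟨algebraMap P A' p, by rw [ψ.commutes]; exact hp⟩
  have hres : ∀ a : A', ∃ c : k, a - algebraMap P A' (MvPolynomial.C c) ∈ u := fun a => by
    obtain ⟨p, hp⟩ := hS 1 (ψ a)
    rw [pow_one] at hp
    refine ⟨MvPolynomial.constantCoeff p, ?_⟩
    show ψ (a - algebraMap P A' (MvPolynomial.C (MvPolynomial.constantCoeff p))) ∈ M
    rw [map_sub, ψ.commutes]
    have := M.add_mem hp (Ideal.mem_map_of_mem (algebraMap P S) (hpoly p))
    rwa [map_sub, sub_add_sub_cancel] at this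
  have hIu : I.map (algebraMap P A') ≤ u := Ideal.map_le_iff_le_comap.mpr fun p hp => by
    show ψ (algebraMap P A' p) ∈ M
    rw [ψ.commutes]
    exact Ideal.mem_map_of_mem _ hp
  have hu : u ≤ I.map (algebraMap P A') ⊔ u ^ 2 := by
    intro a ha
    let J := I.map (algebraMap P A') ⊔ u ^ 2
    let q : A' →ₐ[P] A' ⧸ J := Ideal.Quotient.mkₐ P J
    choose c hc using hres
    have hcu : ∀ z w : k, algebraMap P A' (MvPolynomial.C z) - algebraMap P A' (MvPolynomial.C w) ∈ u → z = w := by
      intro z w h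
      by_contra hne
      have h1 : IsUnit (algebraMap P A' (MvPolynomial.C (z - w))) :=
        ((isUnit_iff_ne_zero.mpr (sub_ne_zero.mpr hne)).map MvPolynomial.C).map _
      have h2 := Ideal.eq_top_of_isUnit_mem u (x := algebraMap P A' (MvPolynomial.C (z - w)))
        (by rw [map_sub, map_sub]; exact h) h1
      have h3 : (1 : S) ∈ M := by
        have h4 : (1 : A') ∈ u := h2 ▸ trivial
        have h5 : ψ 1 ∈ M := h4
        rwa [map_one] at h5
      rw [← pow_one M, hM, map_one] at h3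
      have h6 : (1 : P) ∈ I ^ 1 := Ideal.Quotient.eq_zero_iff_mem.mp (by rw [map_one]; exact h3)
      rw [MvPolynomial.mem_pow_idealOfVars_iff'] at h6
      simpa using h6 0 (by simp)
    have hadd : ∀ x y, c (x + y) = c x + c y := fun x y => hcu _ _ (by
      have h := Ideal.sub_mem _ (Ideal.add_mem _ (hc x) (hc y)) (hc (x + y))
      rw [map_add, map_add]
      convert h using 1
      ring)
    have hmul : ∀ x y, c (x * y) = c x * c y := fun x y => hcu _ _ (by
      have h := Ideal.sub_mem _ (Ideal.add_mem _ (Ideal.mul_mem_right y _ (hc x))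
        (Ideal.mul_mem_left _ (algebraMap P A' (MvPolynomial.C (c x))) (hc y))) (hc (x * y))
      rw [map_mul, map_mul]
      convert h using 1
      ring)
    have hone : c 1 = 1 := hcu _ _ (by
      have h := neg_mem (hc 1)
      rw [map_one, map_one]
      convert h using 1
      ring)
    let χ : A' →+* k := RingHom.mk' ⟨⟨c, hone⟩, hmul⟩ hadd
    let g : A' →+* A' ⧸ J := q.toRingHom.comp (((algebraMap P A').comp MvPolynomial.C).comp χ)
    have hgP : ∀ p : P, g (algebraMap P A' p) = algebraMap P (A' ⧸ J) p := fun p => by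
      show Ideal.Quotient.mk J (algebraMap P A' (MvPolynomial.C (c (algebraMap P A' p)))) =
        Ideal.Quotient.mk J (algebraMap P A' p)
      have hcp : c (algebraMap P A' p) = MvPolynomial.constantCoeff p := hcu _ _ (by
        have h := Ideal.sub_mem _ (hIu (Ideal.mem_map_of_mem _ (hpoly p))) (hc (algebraMap P A' p))
        rw [map_sub] at h
        convert h using 1
        ring)
      rw [hcp, Ideal.Quotient.eq, ← map_sub, ← neg_sub, map_neg]
      exact neg_mem (Ideal.mem_sup_left (Ideal.mem_map_of_mem _ (hpoly p)))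
    let g' : A' →ₐ[P] A' ⧸ J := { g with commutes' := hgP }
    have hnil : IsNilpotent (u.map (Ideal.Quotient.mk J)) := ⟨2, by
      rw [← Ideal.map_pow]
      exact (Ideal.map_eq_bot_iff_le_ker _).mpr (by rw [Ideal.mk_ker]; exact le_sup_right)⟩
    have heq : q = g' := Algebra.FormallyUnramified.ext _ hnil fun x => by
      rw [Ideal.Quotient.eq]
      show Ideal.Quotient.mk J x - Ideal.Quotient.mk J (algebraMap P A' (MvPolynomial.C (c x))) ∈ _
      rw [← map_sub]
      exact Ideal.mem_map_of_mem _ (hc x)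
    have h0 : c a = 0 := hcu _ _ (by
      have h := Ideal.sub_mem _ ha (hc a)
      rw [map_zero, map_zero]
      convert h using 1
      ring)
    have h1 := AlgHom.congr_fun heq a
    refine Ideal.Quotient.eq_zero_iff_mem.mp (h1.trans ?_)
    show Ideal.Quotient.mk J (algebraMap P A' (MvPolynomial.C (c a))) = 0
    rw [h0, map_zero, map_zero, map_zero]
  have hstep := exists_step (algebraMap P A') I u (fun a => ⟨_, (hres a).choose_spec⟩) hIu hu
  refine ⟨hres, hden, fun n a => ⟨fun h => ?_, fun h => ?_⟩⟩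
  · obtain ⟨p, hp⟩ := exists_sub_mem _ hstep n a
    have hle : (u ^ n).map ψ.toRingHom ≤ M ^ n := by
      rw [Ideal.map_pow]; exact Ideal.pow_right_mono Ideal.map_comap_le n
    have h2 := Ideal.sub_mem _ h (hle (Ideal.mem_map_of_mem ψ.toRingHom hp))
    have h3 : algebraMap P S p ∈ M ^ n := by
      change ψ a - ψ (a - algebraMap P A' p) ∈ M ^ n at h2
      rwa [map_sub, ψ.commutes, sub_sub_cancel] at h2
    rw [hM, AlgHom.commutes, Ideal.Quotient.algebraMap_eq, Ideal.Quotient.eq_zero_iff_mem] at h3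
    have h4 : algebraMap P A' p ∈ u ^ n := by
      refine Ideal.pow_right_mono hIu n ?_
      rw [← Ideal.map_pow]
      exact Ideal.mem_map_of_mem _ h3
    have := Ideal.add_mem _ hp h4
    rwa [sub_add_cancel] at this
  · have h1 := Ideal.mem_map_of_mem ψ.toRingHom h
    rw [Ideal.map_pow] at h1
    exact Ideal.pow_right_mono Ideal.map_comap_le n h1

theorem exists_grEquiv_of_initial' {S R T A : Type u} [CommRing S] [CommRing R] [CommRing T] [CommRing A]
    (M : Ideal S) (π : S →+* R) (hπ : Function.Surjective π) (mR : Ideal R) (hmR : M.map π = mR)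
    (π' : S →+* T) (hπ' : Function.Surjective π')
    (hin : ∀ n, ∀ g ∈ M ^ n, g ∈ RingHom.ker π ⊔ M ^ (n + 1) ↔ g ∈ RingHom.ker π' ⊔ M ^ (n + 1))
    (m : Ideal A) (θ : A →+* T) (hden : ∀ n (t : T), ∃ a : A, t - θ a ∈ M.map π' ^ n)
    (hker : ∀ n (a : A), θ a ∈ M.map π' ^ n ↔ a ∈ m ^ n) :
    ∃ e : AssocGr.GrRing (FiltBl.IdealFiltration.adic mR) ≃+* AssocGr.GrRing (FiltBl.IdealFiltration.adic m),
      (∀ n x, x ∈ AssocGr.gr (FiltBl.IdealFiltration.adic mR) n → e x ∈ AssocGr.gr (FiltBl.IdealFiltration.adic m) n) ∧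
      ∀ (s : S) (a : A), π' s = θ a → e (algebraMap R _ (π s)) = algebraMap A _ a := by
  subst hmR
  exact exists_grEquiv_of_initial M π hπ π' hπ' hin m θ hden hker

/-- A complete local ring with residue field the ground field is a quotient of a completed polynomial ring. -/
theorem exists_presentation {k R : Type u} [Field k] [CommRing R] [Algebra k R] [IsLocalRing R] [IsNoetherianRing R]
    [IsAdicComplete (maximalIdeal R) R] (hres : Function.Surjective (fun c : k => residue R (algebraMap k R c))) :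
    ∃ (d : ℕ) (π : AdicCompletion (MvPolynomial.idealOfVars (Fin d) k) (MvPolynomial (Fin d) k) →ₐ[k] R),
      Function.Surjective π ∧
      ((MvPolynomial.idealOfVars (Fin d) k).map (algebraMap (MvPolynomial (Fin d) k)
        (AdicCompletion (MvPolynomial.idealOfVars (Fin d) k) (MvPolynomial (Fin d) k)))).map π.toRingHom = maximalIdeal R := by
  obtain ⟨d, x, hx⟩ := Submodule.fg_iff_exists_fin_generating_family.mp (IsNoetherian.noetherian (maximalIdeal R))
  obtain ⟨φ, hφC, hφX, hφs⟩ := Groth.L01.Cohen.exists_surjective_powerSeries (algebraMap k R) hres x hx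
  let e := MvPowerSeries.toAdicCompletionAlgEquiv (Fin d) k
  let π : AdicCompletion (MvPolynomial.idealOfVars (Fin d) k) (MvPolynomial (Fin d) k) →ₐ[k] R :=
    { φ.comp e.symm.toRingEquiv.toRingHom with
      commutes' := fun c => by
        have h : e.symm (algebraMap k _ c) = MvPowerSeries.C c := by
          rw [IsScalarTower.algebraMap_apply k (MvPolynomial (Fin d) k), e.symm.commutes,
            ← IsScalarTower.algebraMap_apply k (MvPolynomial (Fin d) k) (MvPowerSeries (Fin d) k)]
          rfl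
        show φ (e.symm (algebraMap k _ c)) = _
        rw [h]
        exact RingHom.congr_fun hφC c }
  refine ⟨d, π, hφs.comp e.symm.surjective, ?_⟩
  show Ideal.map _ (Ideal.map _ (Ideal.span (Set.range MvPolynomial.X))) = _
  rw [Ideal.map_span, Ideal.map_span, ← Set.range_comp, ← Set.range_comp]
  refine Eq.trans (congrArg Ideal.span (congrArg Set.range (funext fun i => ?_))) hx
  show φ (e.symm (algebraMap (MvPolynomial (Fin d) k) _ (MvPolynomial.X i))) = x i
  rw [e.symm.commutes, show algebraMap (MvPolynomial (Fin d) k) (MvPowerSeries (Fin d) k) (MvPolynomial.X i) =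
    MvPowerSeries.X i from MvPolynomial.coe_X i, hφX]

set_option maxHeartbeats 2000000 in
/-- A complete local ring with an element of a finitary functor is approximated by an algebra of finite type with the
same associated graded ring. -/
theorem exists_graded_approx {k : Type u} [Field k] (F : CommAlgCat.{u} k ⥤ Type u)
    (hF : ∀ (J : Type u) [SmallCategory J] [IsFiltered J], PreservesColimitsOfShape J F)
    (R : Type u) [CommRing R] [Algebra k R] [IsLocalRing R] [IsNoetherianRing R] [IsAdicComplete (maximalIdeal R) R]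
    (hres : Function.Surjective (fun c : k => residue R (algebraMap k R c))) (ξ : F.obj (CommAlgCat.of k R)) (N : ℕ) :
    ∃ (A : Type u) (_ : CommRing A) (_ : Algebra k A) (_ : Algebra.FiniteType k A)
      (m : Ideal A) (_ : m.IsMaximal)
      (_ : Function.Surjective (fun c : k => Ideal.Quotient.mk m (algebraMap k A c)))
      (η : F.obj (CommAlgCat.of k A))
      (φ : (R ⧸ maximalIdeal R ^ (N + 1)) ≃ₐ[k] (A ⧸ m ^ (N + 1))),
      F.map (CommAlgCat.ofHom (φ.toAlgHom.comp (Ideal.Quotient.mkₐ k (maximalIdeal R ^ (N + 1))))) ξ =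
        F.map (CommAlgCat.ofHom (Ideal.Quotient.mkₐ k (m ^ (N + 1)))) η ∧
      ∃ e : AssocGr.GrRing (FiltBl.IdealFiltration.adic (maximalIdeal R)) ≃+*
          AssocGr.GrRing (FiltBl.IdealFiltration.adic m),
        (∀ (n : ℕ) (x : AssocGr.GrRing (FiltBl.IdealFiltration.adic (maximalIdeal R))),
            x ∈ AssocGr.gr (FiltBl.IdealFiltration.adic (maximalIdeal R)) n →
              e x ∈ AssocGr.gr (FiltBl.IdealFiltration.adic m) n) ∧
        (∀ c : k, e (algebraMap R _ (algebraMap k R c)) = algebraMap A _ (algebraMap k A c)) := by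
  classical
  obtain ⟨C, iC, iAC, hC, φC, ξ₀, hξ₀⟩ := exists_rep_commAlg F hF ξ
  obtain ⟨d, π, hπ, hπM⟩ := exists_presentation hres
  let P := MvPolynomial (Fin d) k
  let I := MvPolynomial.idealOfVars (Fin d) k
  let S := AdicCompletion I P
  let M := I.map (algebraMap P S)
  haveI : IsNoetherianRing S := Groth.L01.AdicNoeth.isNoetherianRing_adicCompletion I (IsNoetherian.noetherian _)
  obtain ⟨r, f, hf⟩ := Submodule.fg_iff_exists_fin_generating_family.mp (IsNoetherian.noetherian (RingHom.ker π.toRingHom))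
  obtain ⟨r', L, hL⟩ := Submodule.fg_iff_exists_fin_generating_family.mp
    (IsNoetherian.noetherian (LinearMap.ker (Fintype.linearCombination S f)))
  obtain ⟨c₀, hc₀⟩ := exists_perturb_bound M f L fun a ha => hL.ge
    (show Fintype.linearCombination S f a = 0 by simpa [Fintype.linearCombination_apply] using ha)
  have hLf : ∀ l, ∑ i, L l i * f i = 0 := fun l => by
    have h : L l ∈ LinearMap.ker (Fintype.linearCombination S f) := hL.le (Submodule.subset_span ⟨l, rfl⟩)
    simpa [Fintype.linearCombination_apply] using h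
  obtain ⟨ny, p, hp, hpker⟩ := Algebra.FinitePresentation.out (R := k) (A := C)
  obtain ⟨ng, g, hg⟩ := Submodule.fg_iff_exists_fin_generating_family.mp hpker
  choose Y hY using fun j : Fin ny => hπ (φC (p (MvPolynomial.X j)))
  let τ₀ : MvPolynomial (Fin ny) k →ₐ[k] S := MvPolynomial.aeval Y
  have hτ₀ : ∀ z, π (τ₀ z) = φC (p z) :=
    AlgHom.congr_fun (MvPolynomial.algHom_ext (f := π.comp τ₀) (g := φC.comp p) fun j => by simp [τ₀, hY])
  have hgmem : ∀ i, τ₀ (g i) ∈ Ideal.span (Set.range f) := fun i => hf.ge (by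
    show π (τ₀ (g i)) = 0
    rw [hτ₀, show p (g i) = 0 from hg.le (Submodule.subset_span ⟨i, rfl⟩), map_zero])
  choose h hh using fun i => (Submodule.mem_span_range_iff_exists_fun S).mp (hgmem i)
  let G : Set S := Set.range f ∪ Set.range (fun li : Fin r' × Fin r => L li.1 li.2) ∪ Set.range Y ∪
    Set.range (fun il : Fin ng × Fin r => h il.1 il.2)
  have hGfin : G.Finite := (((Set.finite_range _).union (Set.finite_range _)).union (Set.finite_range _)).union
    (Set.finite_range _)
  let T : Subalgebra P S := Algebra.adjoin P G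
  haveI : Algebra.FiniteType P T := (Subalgebra.fg_iff_finiteType T).mp ⟨hGfin.toFinset, by rw [Set.Finite.coe_toFinset]⟩
  haveI : Algebra.FinitePresentation P T := Algebra.FinitePresentation.of_finiteType.mp inferInstance
  haveI : IsAdicComplete (maximalIdeal k) k := by
    rw [IsLocalRing.maximalIdeal_eq_bot]
    infer_instance
  have hreg : CAlg.IsRegularHom P S :=
    Groth.Agent.S0600.result P (Groth.Agent.S0599.result k (Groth.Agent.S0598.result k) P) I
  let cN := max c₀ (N + 1)
  obtain ⟨A', iA', iPA', hE, ψ, ω, hω⟩ := Popescu.exists_etale_approx I hreg T.val cN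
  haveI := hE
  obtain ⟨hA'res, hA'den, hA'ker⟩ := exists_etale_truncations ψ
  have hM : ∀ (n : ℕ) (x : S), x ∈ M ^ n ↔ AdicCompletion.evalₐ I n x = 0 := fun n x => by
    rw [Popescu.evalₐ_eq_zero_iff (IsNoetherian.noetherian _), Ideal.map_pow]
  have hcong : ∀ t : T, ψ (ω t) - t.1 ∈ M ^ cN := fun t => by
    rw [hM, map_sub, sub_eq_zero]
    exact hω t
  let fT : Fin r → T := fun i => ⟨f i, Algebra.subset_adjoin (Or.inl (Or.inl (Or.inl ⟨i, rfl⟩)))⟩
  let LT : Fin r' → Fin r → T := fun l i => ⟨L l i, Algebra.subset_adjoin (Or.inl (Or.inl (Or.inr ⟨(l, i), rfl⟩)))⟩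
  let YT : Fin ny → T := fun j => ⟨Y j, Algebra.subset_adjoin (Or.inl (Or.inr ⟨j, rfl⟩))⟩
  let hT : Fin ng → Fin r → T := fun i l => ⟨h i l, Algebra.subset_adjoin (Or.inr ⟨(i, l), rfl⟩)⟩
  letI : Algebra k A' := ((algebraMap P A').comp (algebraMap k P)).toAlgebra
  haveI : IsScalarTower k P A' := IsScalarTower.of_algebraMap_eq' rfl
  haveI : Algebra.FiniteType k A' := Algebra.FiniteType.trans (inferInstance : Algebra.FiniteType k P) inferInstance
  let fA : Fin r → A' := fun i => ω (fT i)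
  let J : Ideal A' := Ideal.span (Set.range fA)
  let f' : Fin r → S := fun i => ψ (fA i)
  let J' : Ideal S := Ideal.span (Set.range f')
  let u : Ideal A' := M.comap ψ.toRingHom
  have hsyz : ∀ l, ∑ i, ψ (ω (LT l i)) * f' i = 0 := fun l => by
    have h1 : ∑ i, LT l i * fT i = 0 := Subtype.ext (by
      rw [AddSubmonoidClass.coe_finsetSum]
      exact hLf l)
    have h2 := congrArg (fun z => ψ (ω z)) h1
    simpa only [map_sum, map_mul, map_zero] using h2
  have hcle : ∀ {z : S}, z ∈ M ^ cN → z ∈ M ^ c₀ := fun hz => Ideal.pow_le_pow_right (le_max_left _ _) hz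
  have hker₀ : RingHom.ker π.toRingHom = Ideal.span (Set.range f) := hf.symm
  have hin := hc₀ f' (fun l i => ψ (ω (LT l i))) (fun i => hcle (hcong (fT i))) (fun l i => hcle (hcong (LT l i))) hsyz
  have hJ' : ∀ i, f' i ∈ M := fun i => by
    have h1 : f i ∈ M := by
      obtain ⟨a, ha⟩ := hA'den 1 (f i)
      rw [pow_one] at ha
      obtain ⟨c, hc⟩ := hA'res a
      have h2 : f i - algebraMap k S c ∈ M := by
        have h3 := M.add_mem ha (show ψ (a - algebraMap P A' (MvPolynomial.C c)) ∈ M from hc)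
        rw [map_sub, ψ.commutes, sub_add_sub_cancel] at h3
        rw [IsScalarTower.algebraMap_apply k P S]
        exact h3
      by_cases hc0 : c = 0
      · rwa [hc0, map_zero, sub_zero] at h2
      · exfalso
        have h4 : π (f i) - algebraMap k R c ∈ maximalIdeal R := by
          rw [← hπM, ← π.commutes, ← map_sub]
          exact Ideal.mem_map_of_mem π.toRingHom h2
        rw [show π (f i) = 0 from hker₀.ge (Ideal.subset_span ⟨i, rfl⟩), zero_sub, neg_mem_iff] at h4
        exact h4 ((isUnit_iff_ne_zero.mpr hc0).map _)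
    have := M.add_mem (Ideal.pow_le_self (by omega : cN ≠ 0) (hcong (fT i))) h1
    rwa [sub_add_cancel] at this
  let A := A' ⧸ J
  let θ : A →+* S ⧸ J' := Ideal.Quotient.lift J ((Ideal.Quotient.mk J').comp ψ.toRingHom) (fun a ha => by
    refine Ideal.Quotient.eq_zero_iff_mem.mpr ?_
    have h1 := Ideal.mem_map_of_mem ψ.toRingHom ha
    rw [Ideal.map_span, ← Set.range_comp] at h1
    exact h1)
  let m : Ideal A := u.map (Ideal.Quotient.mk J)
  have hθden : ∀ (n : ℕ) (t : S ⧸ J'), ∃ a : A, t - θ a ∈ M.map (Ideal.Quotient.mk J') ^ n := fun n t => by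
    obtain ⟨s, rfl⟩ := Ideal.Quotient.mk_surjective t
    obtain ⟨a, ha⟩ := hA'den n s
    refine ⟨Ideal.Quotient.mk J a, ?_⟩
    show Ideal.Quotient.mk J' s - Ideal.Quotient.mk J' (ψ a) ∈ _
    rw [← map_sub, ← Ideal.map_pow]
    exact Ideal.mem_map_of_mem _ ha
  have hθker : ∀ (n : ℕ) (a : A), θ a ∈ M.map (Ideal.Quotient.mk J') ^ n ↔ a ∈ m ^ n := fun n a => by
    obtain ⟨a, rfl⟩ := Ideal.Quotient.mk_surjective a
    rw [map_mem_pow_iff _ Ideal.Quotient.mk_surjective, Ideal.mk_ker]
    show Ideal.Quotient.mk J' (ψ a) ∈ _ ↔ _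
    rw [map_mem_pow_iff _ Ideal.Quotient.mk_surjective, Ideal.mk_ker]
    constructor
    · intro h'
      obtain ⟨y, hy, z, hz, hyz⟩ := Submodule.mem_sup.mp h'
      obtain ⟨s, hs⟩ := (Submodule.mem_span_range_iff_exists_fun S).mp hy
      choose b hb using fun i => hA'den n (s i)
      refine Submodule.mem_sup.mpr ⟨∑ i, b i * fA i, Ideal.sum_mem _ fun i _ =>
        Ideal.mul_mem_left _ _ (Ideal.subset_span ⟨i, rfl⟩), a - ∑ i, b i * fA i, (hA'ker n _).mp ?_, add_sub_cancel _ _⟩
      have e1 : ψ (a - ∑ i, b i * fA i) = ∑ i, (s i - ψ (b i)) * f' i + z := by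
        simp only [map_sub, map_sum, map_mul, sub_mul, Finset.sum_sub_distrib]
        rw [← hyz, ← hs]
        simp only [smul_eq_mul, f']
        ring
      rw [e1]
      exact Ideal.add_mem _ (Ideal.sum_mem _ fun i _ => Ideal.mul_mem_right _ _ (hb i)) hz
    · intro h'
      obtain ⟨y, hy, z, hz, rfl⟩ := Submodule.mem_sup.mp h'
      rw [map_add]
      refine Submodule.add_mem_sup ?_ ((hA'ker n z).mpr hz)
      have h1 := Ideal.mem_map_of_mem ψ.toRingHom hy
      rw [Ideal.map_span, ← Set.range_comp] at h1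
      exact h1
  have hinker : ∀ n, ∀ x ∈ M ^ n, x ∈ RingHom.ker π.toRingHom ⊔ M ^ (n + 1) ↔
      x ∈ RingHom.ker (Ideal.Quotient.mk J') ⊔ M ^ (n + 1) := by
    rw [hker₀, Ideal.mk_ker]
    exact hin
  obtain ⟨e, he, hec⟩ := exists_grEquiv_of_initial' M π.toRingHom hπ (maximalIdeal R) hπM (Ideal.Quotient.mk J')
    Ideal.Quotient.mk_surjective hinker m θ hθden hθker
  let K : Ideal S := RingHom.ker π.toRingHom ⊔ M ^ (N + 1)
  have hK : RingHom.ker (Ideal.Quotient.mk J') ⊔ M ^ (N + 1) = K := by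
    have hd : ∀ i, f' i - f i ∈ M ^ (N + 1) := fun i => Ideal.pow_le_pow_right (le_max_right _ _) (hcong (fT i))
    show RingHom.ker (Ideal.Quotient.mk J') ⊔ M ^ (N + 1) = RingHom.ker π.toRingHom ⊔ M ^ (N + 1)
    rw [hker₀, Ideal.mk_ker]
    refine le_antisymm (sup_le (Ideal.span_le.mpr ?_) le_sup_right) (sup_le (Ideal.span_le.mpr ?_) le_sup_right) <;>
      rintro _ ⟨i, rfl⟩
    · rw [← add_sub_cancel (f i) (f' i)]
      exact Submodule.add_mem_sup (Ideal.subset_span ⟨i, rfl⟩) (hd i)
    · rw [← sub_sub_cancel (f' i) (f i)]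
      exact Ideal.sub_mem _ (Ideal.mem_sup_left (Ideal.subset_span ⟨i, rfl⟩)) (Ideal.mem_sup_right (hd i))
  let qR : S →ₐ[k] R ⧸ maximalIdeal R ^ (N + 1) := (Ideal.Quotient.mkₐ k _).comp π
  have hqR : ∀ s, qR s = 0 ↔ s ∈ K := fun s => by
    show Ideal.Quotient.mk _ (π s) = 0 ↔ _
    rw [Ideal.Quotient.eq_zero_iff_mem, ← hπM]
    exact map_mem_pow_iff π.toRingHom hπ M (N + 1) s
  have hψk : ∀ c : k, ψ (algebraMap k A' c) = algebraMap k S c := fun c => by
    rw [IsScalarTower.algebraMap_apply k P A', ψ.commutes, ← IsScalarTower.algebraMap_apply]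
  let qA : A →ₐ[k] S ⧸ K := Ideal.Quotient.liftₐ J
    ({ (Ideal.Quotient.mk K).comp ψ.toRingHom with
        commutes' := fun c => by
          show Ideal.Quotient.mk K (ψ (algebraMap k A' c)) = _
          rw [hψk]
          rfl } : A' →ₐ[k] S ⧸ K) (fun a ha => by
      refine Ideal.Quotient.eq_zero_iff_mem.mpr (hK ▸ Ideal.mem_sup_left ?_)
      rw [Ideal.mk_ker]
      have h1 := Ideal.mem_map_of_mem ψ.toRingHom ha
      rw [Ideal.map_span, ← Set.range_comp] at h1
      exact h1)
  have hqA : ∀ a : A, qA a = 0 ↔ a ∈ m ^ (N + 1) := fun a => by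
    obtain ⟨a, rfl⟩ := Ideal.Quotient.mk_surjective a
    rw [← hθker]
    show Ideal.Quotient.mk K (ψ a) = 0 ↔ Ideal.Quotient.mk J' (ψ a) ∈ _
    rw [map_mem_pow_iff _ Ideal.Quotient.mk_surjective, hK, Ideal.Quotient.eq_zero_iff_mem]
  have hqAs : Function.Surjective qA := fun t => by
    obtain ⟨s, rfl⟩ := Ideal.Quotient.mk_surjective t
    obtain ⟨a, ha⟩ := hA'den (N + 1) s
    refine ⟨Ideal.Quotient.mk J a, Ideal.Quotient.eq.mpr ?_⟩
    exact Ideal.mem_sup_right (neg_sub s (ψ a) ▸ neg_mem ha)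
  let eR : (S ⧸ K) ≃ₐ[k] (R ⧸ maximalIdeal R ^ (N + 1)) :=
    (Ideal.quotientEquivAlgOfEq k (Ideal.ext fun s => (hqR s).symm : K = RingHom.ker qR)).trans
      (Ideal.quotientKerAlgEquivOfSurjective ((Ideal.Quotient.mkₐ_surjective k _).comp hπ))
  let eA : (A ⧸ m ^ (N + 1)) ≃ₐ[k] (S ⧸ K) :=
    (Ideal.quotientEquivAlgOfEq k (Ideal.ext fun a => (hqA a).symm : m ^ (N + 1) = RingHom.ker qA)).trans
      (Ideal.quotientKerAlgEquivOfSurjective hqAs)
  have heR : ∀ s, eR (Ideal.Quotient.mk K s) = qR s := fun s => rfl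
  have heA : ∀ a, eA (Ideal.Quotient.mk _ a) = qA a := fun a => rfl
  have hCtoA : ∀ z ∈ RingHom.ker p, (MvPolynomial.aeval fun j => Ideal.Quotient.mk J (ω (YT j))) z = (0 : A) := by
    show RingHom.ker p ≤ RingHom.ker (MvPolynomial.aeval (R := k) fun j => Ideal.Quotient.mk J (ω (YT j)))
    refine hg.ge.trans (Submodule.span_le.mpr ?_)
    rintro _ ⟨i, rfl⟩
    let τT : MvPolynomial (Fin ny) k →ₐ[k] T := MvPolynomial.aeval YT
    have hval : ∀ z, ((τT z : T) : S) = τ₀ z :=
      AlgHom.congr_fun (MvPolynomial.algHom_ext (f := (T.val.restrictScalars k).comp τT) (g := τ₀) fun j => by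
        simp [τT, τ₀, YT])
    have h1 : τT (g i) = ∑ l, hT i l * fT l := Subtype.ext (by
      rw [AddSubmonoidClass.coe_finsetSum, hval, ← hh]
      rfl)
    show (MvPolynomial.aeval fun j => Ideal.Quotient.mk J (ω (YT j))) (g i) = (0 : A)
    rw [show (MvPolynomial.aeval fun j => Ideal.Quotient.mk J (ω (YT j))) (g i) =
        Ideal.Quotient.mk J (ω (τT (g i))) from AlgHom.congr_fun (MvPolynomial.algHom_ext
          (g := (Ideal.Quotient.mkₐ k J).comp ((ω.restrictScalars k).comp τT)) fun j => by simp [τT]) (g i),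
      h1, map_sum, Ideal.Quotient.eq_zero_iff_mem]
    exact Ideal.sum_mem _ fun l _ => by
      rw [map_mul]
      exact Ideal.mul_mem_left _ _ (Ideal.subset_span ⟨l, rfl⟩)
  let ec := Ideal.quotientKerAlgEquivOfSurjective hp
  let φA : C →ₐ[k] A := (Ideal.Quotient.liftₐ (RingHom.ker p) _ hCtoA).comp ec.symm.toAlgHom
  have hφA : ∀ z, φA (p z) = MvPolynomial.aeval (fun j => Ideal.Quotient.mk J (ω (YT j))) z := fun z => by
    show Ideal.Quotient.liftₐ (RingHom.ker p) _ hCtoA (ec.symm (p z)) = _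
    rw [show ec.symm (p z) = Ideal.Quotient.mk _ z from ec.symm_apply_eq.mpr rfl]
    rfl
  have hmres : ∀ a : A, ∃ c : k, a - algebraMap k A c ∈ m := fun a => by
    obtain ⟨a, rfl⟩ := Ideal.Quotient.mk_surjective a
    obtain ⟨c, hc⟩ := hA'res a
    refine ⟨c, ?_⟩
    rw [show algebraMap k A c = Ideal.Quotient.mk J (algebraMap P A' (MvPolynomial.C c)) from rfl, ← map_sub]
    exact Ideal.mem_map_of_mem _ hc
  have hJ'M : J' ≤ M := Ideal.span_le.mpr (by rintro _ ⟨i, rfl⟩; exact hJ' i)
  have hMtop : M ≠ ⊤ := fun htop => by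
    have := hπM
    rw [show Ideal.map (algebraMap P S) I = M from rfl, htop, Ideal.map_top] at this
    exact (maximalIdeal.isMaximal R).ne_top this.symm
  have hm1 : (1 : A) ∉ m := fun h1 => by
    have h2 := (hθker 1 1).mpr (by rwa [pow_one])
    rw [map_one, pow_one, ← map_one (Ideal.Quotient.mk J'), ← pow_one M] at h2
    have h3 : (1 : S) ∈ RingHom.ker (Ideal.Quotient.mk J') ⊔ M ^ 1 :=
      (map_mem_pow_iff _ Ideal.Quotient.mk_surjective M 1 1).mp (by rwa [pow_one] at h2 ⊢)
    rw [Ideal.mk_ker, pow_one, sup_eq_right.mpr hJ'M] at h3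
    exact hMtop (Ideal.eq_top_iff_one _ |>.mpr h3)
  have hsurjk : Function.Surjective (fun c : k => Ideal.Quotient.mk m (algebraMap k A c)) := fun x => by
    obtain ⟨a, rfl⟩ := Ideal.Quotient.mk_surjective x
    obtain ⟨c, hc⟩ := hmres a
    exact ⟨c, (Ideal.Quotient.eq.mpr hc).symm⟩
  haveI hmax : m.IsMaximal := by
    haveI : Nontrivial (A ⧸ m) := Ideal.Quotient.nontrivial_iff.mpr (fun h => hm1 (h ▸ trivial))
    rw [← Ideal.mk_ker (I := m)]
    have hs : Function.Surjective ((Ideal.Quotient.mk m).comp (algebraMap k A)) := hsurjk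
    have hfield : IsField (A ⧸ m) :=
      ((RingEquiv.ofBijective _ ⟨RingHom.injective _, hs⟩).symm.toMulEquiv).isField (Field.toIsField k)
    rw [Ideal.mk_ker]
    exact Ideal.Quotient.maximal_of_isField m hfield
  refine ⟨A, inferInstance, inferInstance, inferInstance, m, hmax, hsurjk,
    F.map (CommAlgCat.ofHom φA) ξ₀, eR.symm.trans eA.symm, ?_, e, he, fun c => ?_⟩
  · rw [← hξ₀, ← Functor.map_comp_apply, ← Functor.map_comp_apply]
    refine congrArg (fun w => F.map w ξ₀) ((CommAlgCat.ofHom_comp _ _).symm.trans ((congrArg CommAlgCat.ofHom ?_).trans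
      (CommAlgCat.ofHom_comp _ _)))
    refine AlgHom.ext fun x => ?_
    obtain ⟨z, rfl⟩ := hp x
    show eA.symm (eR.symm (Ideal.Quotient.mk _ (φC (p z)))) = Ideal.Quotient.mk _ (φA (p z))
    rw [AlgEquiv.symm_apply_eq, AlgEquiv.symm_apply_eq, heA, ← hτ₀, hφA]
    show qR (τ₀ z) = _
    rw [← heR]
    refine congrArg eR ?_
    let q₁ : MvPolynomial (Fin ny) k →ₐ[k] S ⧸ K := (Ideal.Quotient.mkₐ k K).comp τ₀
    let q₂ : MvPolynomial (Fin ny) k →ₐ[k] S ⧸ K :=
      qA.comp (MvPolynomial.aeval fun j => Ideal.Quotient.mk J (ω (YT j)))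
    refine AlgHom.congr_fun (show q₁ = q₂ from MvPolynomial.algHom_ext fun j => ?_) z
    show Ideal.Quotient.mk K (MvPolynomial.aeval Y (MvPolynomial.X j)) =
      qA (MvPolynomial.aeval (fun j => Ideal.Quotient.mk J (ω (YT j))) (MvPolynomial.X j))
    rw [MvPolynomial.aeval_X, MvPolynomial.aeval_X]
    show Ideal.Quotient.mk K (Y j) = Ideal.Quotient.mk K (ψ (ω (YT j)))
    refine Ideal.Quotient.eq.mpr (Ideal.mem_sup_right ?_)
    rw [← neg_sub]
    exact neg_mem (Ideal.pow_le_pow_right (le_max_right _ _) (hcong (YT j)))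
  · have h1 := hec (algebraMap k S c) (algebraMap k A c) (by
      show Ideal.Quotient.mk J' (algebraMap k S c) = Ideal.Quotient.mk J' (ψ (algebraMap k A' c))
      rw [hψk])
    rw [show π.toRingHom (algebraMap k S c) = algebraMap k R c from π.commutes c] at h1
    exact h1

end Groth.L14.GrApprox
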