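import Groth.Agent.L14.GrApprox.FormalModification
import Groth.Agent.L01.AdicNoeth
import Groth.Agent.S0543
import Mathlib.LinearAlgebra.Matrix.Charpoly.LinearMap
import Mathlib.RingTheory.AdicCompletion.RingHom
import Mathlib.RingTheory.AdicCompletion.Completeness
import Mathlib.RingTheory.Localization.Away.AdjoinRoot

/-!
Algebraization of formally etale-type quotients of completions.
-/

set_option autoImplicit false
set_option linter.style.haveILetI false

noncomputable section

namespace Groth.L14.GrApprox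

universe u

/-- If a power of an ideal kills the conormal module, another power lies in the ideal plus its annihilator. -/
theorem exists_pow_le_sup_annihilator {S : Type u} [CommRing S] [IsNoetherianRing S] (𝔟 J : Ideal S) (c : ℕ)
    (h : 𝔟 ^ c * J ≤ J ^ 2) : ∃ m, 𝔟 ^ m ≤ J ⊔ Submodule.annihilator J := by
  have hrad : 𝔟 ^ c ≤ (J ⊔ Submodule.annihilator J).radical := by
    intro a ha
    let f : Module.End S J := algebraMap S (Module.End S J) a
    have hf : LinearMap.range f ≤ J • ⊤ := by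
      rintro _ ⟨x, rfl⟩
      rw [Submodule.mem_smul_top_iff, smul_eq_mul, ← pow_two]
      exact h (Ideal.mul_mem_mul ha x.2)
    obtain ⟨p, hp, -, hcoeff, hp0⟩ :=
      LinearMap.exists_monic_and_natDegree_eq_and_coeff_mem_pow_and_aeval_eq_zero S f J hf
    rw [Polynomial.aeval_algebraMap_apply, Polynomial.coe_aeval_eq_eval] at hp0
    have h1 : p.eval a ∈ Submodule.annihilator J := Submodule.mem_annihilator.mpr fun x hx => by
      have := congrArg Subtype.val (LinearMap.congr_fun hp0 ⟨x, hx⟩)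
      simpa using this
    refine ⟨p.natDegree, ?_⟩
    have h2 : a ^ p.natDegree = p.eval a - ∑ i ∈ Finset.range p.natDegree, p.coeff i * a ^ i := by
      rw [Polynomial.eval_eq_sum_range, Finset.sum_range_succ, hp.coeff_natDegree, one_mul, add_sub_cancel_left]
    rw [h2]
    refine sub_mem (Submodule.mem_sup_right h1) (Submodule.mem_sup_left (J.sum_mem fun i hi => J.mul_mem_right _ ?_))
    exact Ideal.pow_le_self (by have := Finset.mem_range.mp hi; omega) (hcoeff i)
  obtain ⟨N, hN⟩ := Ideal.exists_pow_le_of_le_radical_of_fg hrad (IsNoetherian.noetherian _)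
  exact ⟨c * N, by rwa [pow_mul]⟩

variable {S C : Type u} [CommRing S] [CommRing C] {𝔟 : Ideal S} [IsAdicComplete 𝔟 S]
  {π : S →+* C}

theorem isUnit_of_sub_one_mem (hπ : Function.Surjective π) {x : C} (hx : x - 1 ∈ 𝔟.map π) : IsUnit x := by
  obtain ⟨y, hy, h⟩ := (Ideal.mem_map_iff_of_surjective π hπ).mp hx
  have := Ideal.mem_jacobson_bot.mp (IsAdicComplete.le_jacobson_bot 𝔟 hy) 1
  rw [mul_one] at this
  have h2 := this.map π
  rwa [map_add, h, map_one, sub_add_cancel] at h2

theorem eq_zero_of_forall_mem [IsNoetherianRing S] (hπ : Function.Surjective π) {x : C}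
    (hx : ∀ n, x ∈ (𝔟.map π) ^ n) : x = 0 := by
  haveI : IsNoetherianRing C := isNoetherianRing_of_surjective S C π hπ
  have hj : 𝔟.map π ≤ (⊥ : Ideal C).jacobson := fun y hy => Ideal.mem_jacobson_bot.mpr fun z =>
    isUnit_of_sub_one_mem (𝔟 := 𝔟) hπ (by rw [add_sub_cancel_right]; exact Ideal.mul_mem_right _ _ hy)
  have h1 : x ∈ (⨅ i : ℕ, (𝔟.map π) ^ i • ⊤ : Submodule C C) := by
    rw [Submodule.mem_iInf]
    intro i
    rw [smul_eq_mul, Ideal.mul_top]
    exact hx i
  rwa [Ideal.iInf_pow_smul_eq_bot_of_le_jacobson _ hj, Submodule.mem_bot] at h1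

theorem exists_limit_image (hπ : Function.Surjective π) (cs : ℕ → C)
    (hcs : ∀ n, cs (n + 1) - cs n ∈ (𝔟.map π) ^ n) : ∃ x, ∀ n, x - cs n ∈ (𝔟.map π) ^ n := by
  obtain ⟨s₀, hs₀⟩ := hπ (cs 0)
  have h1 : ∀ n, ∃ d ∈ 𝔟 ^ n, π d = cs (n + 1) - cs n := fun n => by
    have := hcs n
    rw [← Ideal.map_pow] at this
    exact (Ideal.mem_map_iff_of_surjective π hπ).mp this
  choose d hd hπd using h1
  let f : ℕ → S := fun n => s₀ + ∑ i ∈ Finset.range n, d i
  have hπf : ∀ n, π (f n) = cs n := fun n => by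
    induction n with
    | zero => simp [f, hs₀]
    | succ n ih =>
      simp only [f, map_add] at ih ⊢
      rw [Finset.sum_range_succ, map_add, ← add_assoc, ih, hπd, add_sub_cancel]
  obtain ⟨L, hL⟩ := IsPrecomplete.prec' (I := 𝔟) f fun {m n} hmn => by
    rw [SModEq.sub_mem, smul_eq_mul, Ideal.mul_top, ← neg_mem_iff, neg_sub]
    show s₀ + _ - (s₀ + _) ∈ _
    rw [add_sub_add_left_eq_sub, ← Finset.sum_Ico_eq_sub _ hmn]
    exact Ideal.sum_mem _ fun i hi => Ideal.pow_le_pow_right (Finset.mem_Ico.mp hi).1 (hd i)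
  refine ⟨π L, fun n => ?_⟩
  have h2 := hL n
  rw [SModEq.sub_mem, smul_eq_mul, Ideal.mul_top] at h2
  rw [← hπf, ← map_sub, ← Ideal.map_pow]
  exact Ideal.mem_map_of_mem π (by rw [← neg_sub]; exact neg_mem h2)

/-- A ring map with bijective truncations into a complete separated ring identifies it with the completion. -/
theorem exists_equiv_completion {D C : Type u} [CommRing D] [CommRing C] (I : Ideal D) (𝔠 : Ideal C) (Φ : D →+* C)
    (hΦ : ∀ n x, Φ x ∈ 𝔠 ^ n ↔ x ∈ I ^ n) (hden : ∀ n c, ∃ x, c - Φ x ∈ 𝔠 ^ n)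
    (hsep : ∀ c, (∀ n, c ∈ 𝔠 ^ n) → c = 0)
    (hlim : ∀ cs : ℕ → C, (∀ n, cs (n + 1) - cs n ∈ 𝔠 ^ n) → ∃ c, ∀ n, c - cs n ∈ 𝔠 ^ n) :
    ∃ e : C ≃+* AdicCompletion I D, ∀ x, e (Φ x) = algebraMap D (AdicCompletion I D) x := by
  let ψ : ∀ n, D ⧸ I ^ n →+* C ⧸ 𝔠 ^ n := fun n =>
    Ideal.quotientMap (𝔠 ^ n) Φ (fun x hx => (hΦ n x).mpr hx)
  have hψ : ∀ n, Function.Bijective (ψ n) := by
    intro n
    refine ⟨(injective_iff_map_eq_zero _).mpr fun x hx => ?_, fun y => ?_⟩
    · obtain ⟨x, rfl⟩ := Ideal.Quotient.mk_surjective x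
      rw [show ψ n (Ideal.Quotient.mk _ x) = Ideal.Quotient.mk _ (Φ x) from rfl, Ideal.Quotient.eq_zero_iff_mem,
        hΦ, ← Ideal.Quotient.eq_zero_iff_mem] at hx
      exact hx
    · obtain ⟨c, rfl⟩ := Ideal.Quotient.mk_surjective y
      obtain ⟨x, hx⟩ := hden n c
      exact ⟨Ideal.Quotient.mk _ x, (Ideal.Quotient.eq.mpr hx).symm⟩
  let f : ∀ n, C →+* D ⧸ I ^ n := fun n =>
    (RingEquiv.ofBijective (ψ n) (hψ n)).symm.toRingHom.comp (Ideal.Quotient.mk (𝔠 ^ n))
  have hfψ : ∀ n c, ψ n (f n c) = Ideal.Quotient.mk _ c := fun n c =>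
    RingEquiv.apply_symm_apply (RingEquiv.ofBijective (ψ n) (hψ n)) _
  let F : C →+* AdicCompletion I D := AdicCompletion.liftRingHom I f fun {m n} hle => RingHom.ext fun c => by
    apply (hψ m).1
    obtain ⟨x, hx⟩ := Ideal.Quotient.mk_surjective (f n c)
    have h1 := hfψ n c
    rw [← hx] at h1
    rw [hfψ, RingHom.comp_apply, ← hx]
    show Ideal.Quotient.mk _ (Φ x) = _
    exact Ideal.Quotient.eq.mpr (Ideal.pow_le_pow_right hle (Ideal.Quotient.eq.mp h1))
  have hF : ∀ n c, AdicCompletion.evalₐ I n (F c) = f n c := fun n c => AdicCompletion.evalₐ_liftRingHom I f _ n c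
  have hinj : Function.Injective F := (injective_iff_map_eq_zero F).mpr fun c hc => hsep c fun n => by
    have h1 := hfψ n c
    rwa [← hF, hc, map_zero, map_zero, eq_comm, Ideal.Quotient.eq_zero_iff_mem] at h1
  have hsurj : Function.Surjective F := fun y => by
    choose cs hcs using fun n => Ideal.Quotient.mk_surjective (ψ n (AdicCompletion.evalₐ I n y))
    obtain ⟨c, hc⟩ := hlim cs fun n => by
      obtain ⟨y', rfl⟩ := AdicCompletion.mk_surjective I D y
      have h1 := hcs (n + 1)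
      have h2 := hcs n
      rw [AdicCompletion.evalₐ_mk] at h1 h2
      have h3 : y'.val n - y'.val (n + 1) ∈ I ^ n := by
        have h4 := y'.2 (Nat.le_succ n)
        rwa [SModEq.sub_mem, smul_eq_mul, Ideal.mul_top] at h4
      have h5 : cs (n + 1) - Φ (y'.val (n + 1)) ∈ 𝔠 ^ n := Ideal.pow_le_pow_right (Nat.le_succ n) (Ideal.Quotient.eq.mp h1)
      have h6 : cs n - Φ (y'.val n) ∈ 𝔠 ^ n := Ideal.Quotient.eq.mp h2
      have h7 := sub_mem (sub_mem h5 h6) ((hΦ n _).mpr h3)
      rw [map_sub] at h7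
      convert h7 using 1
      ring
    refine ⟨c, AdicCompletion.ext_evalₐ fun n => ?_⟩
    rw [hF]
    apply (hψ n).1
    rw [hfψ, ← hcs n]
    exact Ideal.Quotient.eq.mpr (hc n)
  refine ⟨RingEquiv.ofBijective F ⟨hinj, hsurj⟩, fun x => AdicCompletion.ext_evalₐ fun n => ?_⟩
  show AdicCompletion.evalₐ I n (F (Φ x)) = _
  rw [hF]
  apply (hψ n).1
  rw [hfψ, AdicCompletion.algebraMap_apply, AdicCompletion.evalₐ_of]
  rfl

set_option maxHeartbeats 800000 in
/-- Descent of a modification followed by localization at a lift of an idempotent. -/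
theorem exists_algebraization_of_idempotent {B S C E : Type u} [CommRing B] [IsNoetherianRing B] [CommRing S]
    [IsNoetherianRing S] [Algebra B S] [CommRing C] [CommRing E] {𝔞 : Ideal B}
    [IsAdicComplete (𝔞.map (algebraMap B S)) S]
    (h : IsComplLike (S := S) 𝔞) (π : S →+* C) (hπ : Function.Surjective π) (β : S →+* E) (hβ : β.Finite) (m : ℕ)
    (hk : ∀ l ∈ 𝔞 ^ m, ∀ s, β s = 0 → algebraMap B S l * s = 0)
    (hc : ∀ l ∈ 𝔞 ^ m, ∀ e : E, β (algebraMap B S l) * e ∈ Set.range β)
    (q : E →+* C) (hq : q.comp β = π) (ε : E) (hqε : q ε = 1) (hε : ∀ e, q e = 0 → e * ε = 0)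
    (hidem : ε * ε = ε) :
    ∃ (D : Type u) (_ : CommRing D) (_ : Algebra B D), Algebra.FiniteType B D ∧
      ∃ e : C ≃+* AdicCompletion (𝔞.map (algebraMap B D)) D,
        ∀ b, e (π (algebraMap B S b)) = algebraMap D _ (algebraMap B D b) := by
  letI := (β.comp (algebraMap B S)).toAlgebra
  obtain ⟨D, hDft, hden, hsat⟩ := exists_descended_modification h β hβ m hk hc
  have hqalg : ∀ n, ((𝔞 ^ n).map (algebraMap B E)).map q = ((𝔞.map (algebraMap B S)).map π) ^ n := fun n => by
    rw [← Ideal.map_pow, ← Ideal.map_pow, Ideal.map_map, Ideal.map_map, ← hq, RingHom.comp_assoc]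
    rfl
  obtain ⟨g, hgD, hg⟩ := hden 1 ε
  rw [pow_one] at hg
  let gD : D := ⟨g, hgD⟩
  let q₀ : D →+* C := q.comp D.val.toRingHom
  have hu : IsUnit (q₀ gD) := isUnit_of_sub_one_mem (𝔟 := 𝔞.map (algebraMap B S)) hπ (by
    have h1 := Ideal.mem_map_of_mem q hg
    rw [map_sub, hqε, show 𝔞.map (algebraMap B E) = (𝔞 ^ 1).map (algebraMap B E) by rw [pow_one], hqalg, pow_one] at h1
    rw [← neg_sub]
    exact neg_mem h1)
  let D' := Localization.Away gD
  haveI : Algebra.FiniteType D D' :=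
    haveI := IsLocalization.Away.finitePresentation (S := D') gD
    inferInstance
  refine ⟨D', inferInstance, inferInstance, Algebra.FiniteType.trans (S := D) hDft inferInstance, ?_⟩
  let Φ : D' →+* C := IsLocalization.Away.lift gD hu
  have hΦ : ∀ d : D, Φ (algebraMap D D' d) = q₀ d := fun d => IsLocalization.Away.lift_eq gD hu d
  have hΦI : ∀ n x, Φ x ∈ ((𝔞.map (algebraMap B S)).map π) ^ n ↔ x ∈ (𝔞.map (algebraMap B D')) ^ n := by
    intro n x
    have hmapΦ : ((𝔞.map (algebraMap B D')) ^ n).map Φ = ((𝔞.map (algebraMap B S)).map π) ^ n := by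
      rw [Ideal.map_pow, Ideal.map_map, ← Ideal.map_pow, ← hqalg, Ideal.map_map,
        show Φ.comp (algebraMap B D') = q.comp (algebraMap B E) from RingHom.ext fun b => by
          rw [RingHom.comp_apply, IsScalarTower.algebraMap_apply B D D', hΦ]
          rfl]
    refine ⟨fun hx => ?_, fun hx => hmapΦ ▸ Ideal.mem_map_of_mem Φ hx⟩
    obtain ⟨k, d, hkd⟩ := IsLocalization.Away.surj gD x
    have h1 : q₀ d ∈ ((𝔞.map (algebraMap B S)).map π) ^ n := by
      rw [← hΦ, ← hkd, map_mul]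
      exact Ideal.mul_mem_right _ _ hx
    have hdE : (d : E) * g ^ n ∈ (𝔞 ^ n).map (algebraMap B E) := by
      have h2 : (d : E) * ε ∈ (𝔞 ^ n).map (algebraMap B E) := by
        rw [← Ideal.map_pow, ← Ideal.map_pow] at h1
        obtain ⟨y, hy, hyd⟩ := (Ideal.mem_map_iff_of_surjective π hπ).mp h1
        have h3 := hε ((d : E) - β y) (by
          rw [map_sub, ← RingHom.comp_apply q β, hq, hyd]
          exact sub_self _)
        rw [sub_mul, sub_eq_zero] at h3
        rw [h3]
        refine Ideal.mul_mem_right _ _ ?_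
        rw [show algebraMap B E = β.comp (algebraMap B S) from rfl, ← Ideal.map_map]
        exact Ideal.mem_map_of_mem β hy
      have h4 : (g * (1 - ε)) ^ n ∈ (𝔞 ^ n).map (algebraMap B E) := by
        rw [Ideal.map_pow]
        refine Ideal.pow_mem_pow ?_ n
        have : g * (1 - ε) = -((ε - g) * (1 - ε)) := by linear_combination -hidem
        rw [this]
        exact neg_mem (Ideal.mul_mem_right _ _ hg)
      have h5 : (1 - ε) * (1 - ε) = 1 - ε := by linear_combination hidem
      rcases Nat.eq_zero_or_pos n with rfl | hn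
      · rw [pow_zero 𝔞, Ideal.one_eq_top, Ideal.map_top]; trivial
      · have h6 : (1 - ε) ^ n = 1 - ε := by
          obtain ⟨j, rfl⟩ := Nat.exists_eq_add_of_le' hn
          clear * - h5
          induction j with
          | zero => rw [pow_one]
          | succ j ih => rw [pow_succ, ih, h5]
        rw [mul_pow, h6] at h4
        have : (d : E) * g ^ n = g ^ n * ((d : E) * ε) + (d : E) * (g ^ n * (1 - ε)) := by ring
        rw [this]
        exact add_mem (Ideal.mul_mem_left _ _ h2) (Ideal.mul_mem_left _ _ h4)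
    have h7 := Ideal.mem_map_of_mem (algebraMap D D') (hsat n (d * gD ^ n) hdE)
    rw [Ideal.map_map, ← IsScalarTower.algebraMap_eq, Ideal.map_pow, map_mul, map_pow, ← hkd, mul_assoc, ← pow_add] at h7
    exact (Ideal.mul_unit_mem_iff_mem _ ((IsLocalization.Away.algebraMap_isUnit (S := D') gD).pow _)).mp h7
  obtain ⟨e, he⟩ := exists_equiv_completion (𝔞.map (algebraMap B D')) ((𝔞.map (algebraMap B S)).map π) Φ hΦI
    (fun n c => by
      obtain ⟨s, rfl⟩ := hπ c
      obtain ⟨d, hdD, hd⟩ := hden n (β s)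
      refine ⟨algebraMap D D' ⟨d, hdD⟩, ?_⟩
      rw [hΦ, ← hqalg, ← hq]
      have h1 := Ideal.mem_map_of_mem q hd
      rwa [map_sub] at h1)
    (fun c hc' => eq_zero_of_forall_mem hπ hc') (exists_limit_image hπ)
  refine ⟨e, fun b => ?_⟩
  rw [← he, IsScalarTower.algebraMap_apply B D D', hΦ, ← hq]
  rfl

end Groth.L14.GrApprox
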