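import Mathlib.RingTheory.Filtration
import Mathlib.LinearAlgebra.Pi

/-!
Initial ideals are stable under small perturbations preserving the syzygies.
-/

set_option autoImplicit false

namespace Groth.L14.GrApprox

universe u

variable {S : Type u} [CommRing S] {r r' : ℕ}

theorem mem_smul_pi (I : Ideal S) (a : Fin r → S) (h : ∀ i, a i ∈ I) : a ∈ I • (⊤ : Submodule S (Fin r → S)) := by
  classical
  rw [pi_eq_sum_univ a]
  exact Submodule.sum_mem _ fun i _ => Submodule.smul_mem_smul (h i) trivial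

/-- Artin-Rees for the coefficients. -/
theorem exists_coeff_bound {M : Type u} [AddCommGroup M] [Module S M] [IsNoetherianRing S] [Module.Finite S M]
    (m : Ideal S) {ι : Type} [Fintype ι] (v : ι → M) :
    ∃ c : ℕ, ∀ (n : ℕ) (g : M), g ∈ m ^ n • (⊤ : Submodule S M) → g ∈ Submodule.span S (Set.range v) →
      ∃ a : ι → S, (∀ i, a i ∈ m ^ (n - c)) ∧ ∑ i, a i • v i = g := by
  classical
  obtain ⟨c, hc⟩ := Ideal.exists_pow_inf_eq_pow_smul m (Submodule.span S (Set.range v))
  refine ⟨c, fun n g hg hv => ?_⟩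
  rcases Nat.lt_or_ge n c with hlt | hge
  · obtain ⟨a, ha⟩ := (Submodule.mem_span_range_iff_exists_fun S).mp hv
    refine ⟨a, fun i => ?_, ha⟩
    rw [Nat.sub_eq_zero_of_le hlt.le, pow_zero, Ideal.one_eq_top]
    trivial
  · have h1 : g ∈ m ^ (n - c) • (m ^ c • ⊤ ⊓ Submodule.span S (Set.range v)) := (hc n hge).le ⟨hg, hv⟩
    have h2 : g ∈ m ^ (n - c) • Submodule.span S (Set.range v) :=
      Submodule.smul_mono le_rfl inf_le_right h1
    obtain ⟨a, ha, hag⟩ := (Submodule.mem_ideal_smul_span_iff_exists_sum (m ^ (n - c)) v g).mp h2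
    refine ⟨a, ha, ?_⟩
    rw [← hag, Finsupp.sum_fintype]
    exact fun i => zero_smul _ _

theorem sum_mul_mem {I J : Ideal S} {ι : Type} [Fintype ι] {a b : ι → S} (ha : ∀ i, a i ∈ I) (hb : ∀ i, b i ∈ J) :
    ∑ i, a i * b i ∈ I * J :=
  Ideal.sum_mem _ fun i _ => Ideal.mul_mem_mul (ha i) (hb i)

/-- Perturbing generators and syzygies by high order terms does not change the initial ideal. -/
theorem exists_perturb_bound [IsNoetherianRing S] (m : Ideal S) (f : Fin r → S) (L : Fin r' → Fin r → S)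
    (hL : ∀ a : Fin r → S, ∑ i, a i * f i = 0 → a ∈ Submodule.span S (Set.range L)) :
    ∃ c : ℕ, ∀ (f' : Fin r → S) (L' : Fin r' → Fin r → S), (∀ i, f' i - f i ∈ m ^ c) →
      (∀ l i, L' l i - L l i ∈ m ^ c) → (∀ l, ∑ i, L' l i * f' i = 0) →
      ∀ n : ℕ, ∀ g ∈ m ^ n, g ∈ Ideal.span (Set.range f) ⊔ m ^ (n + 1) ↔
        g ∈ Ideal.span (Set.range f') ⊔ m ^ (n + 1) := by
  classical
  obtain ⟨c₀, h₀⟩ := exists_coeff_bound m f
  obtain ⟨c₁, h₁⟩ := exists_coeff_bound m L
  refine ⟨c₀ + c₁ + 1, fun f' L' hf hLd hsyz n g hg => ⟨fun h => ?_, fun h => ?_⟩⟩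
  · obtain ⟨x, hx, y, hy, rfl⟩ := Submodule.mem_sup.mp h
    have hxn : x ∈ m ^ n := by
      have := Ideal.sub_mem _ hg (Ideal.pow_le_pow_right (Nat.le_succ n) hy)
      rwa [add_sub_cancel_right] at this
    obtain ⟨a, ha, hax⟩ := h₀ n x (by rwa [smul_eq_mul, Ideal.mul_top]) hx
    refine Submodule.mem_sup.mpr ⟨∑ i, a i * f' i, Ideal.sum_mem _ fun i _ =>
      Ideal.mul_mem_left _ _ (Ideal.subset_span ⟨i, rfl⟩), x + y - ∑ i, a i * f' i, ?_, add_sub_cancel _ _⟩
    have h2 : ∑ i, a i * (f' i - f i) ∈ m ^ (n + 1) := by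
      refine Ideal.pow_le_pow_right (show n + 1 ≤ (n - c₀) + (c₀ + c₁ + 1) by omega) ?_
      rw [pow_add]
      exact sum_mul_mem ha hf
    have hdec : x + y - ∑ i, a i * f' i = y - ∑ i, a i * (f' i - f i) := by
      simp only [mul_sub, Finset.sum_sub_distrib]
      rw [← hax]
      simp only [smul_eq_mul]
      ring
    rw [hdec]
    exact Ideal.sub_mem _ hy h2
  · obtain ⟨x, hx, y, hy, rfl⟩ := Submodule.mem_sup.mp h
    have hxn : x ∈ m ^ n := by
      have := Ideal.sub_mem _ hg (Ideal.pow_le_pow_right (Nat.le_succ n) hy)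
      rwa [add_sub_cancel_right] at this
    have key : ∀ t j : ℕ, n + 1 ≤ j + (c₀ + c₁ + 1) + t → ∀ a : Fin r → S, (∀ i, a i ∈ m ^ j) →
        ∑ i, a i * f' i = x → x ∈ Ideal.span (Set.range f) ⊔ m ^ (n + 1) := by
      intro t
      induction t with
      | zero =>
        intro j hj a ha hax
        refine Submodule.mem_sup.mpr ⟨∑ i, a i * f i, Ideal.sum_mem _ fun i _ =>
          Ideal.mul_mem_left _ _ (Ideal.subset_span ⟨i, rfl⟩), ∑ i, a i * (f' i - f i), ?_, ?_⟩
        · refine Ideal.pow_le_pow_right (show n + 1 ≤ j + (c₀ + c₁ + 1) by omega) ?_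
          rw [pow_add]
          exact sum_mul_mem ha hf
        · simp only [mul_sub, Finset.sum_sub_distrib]
          rw [add_sub_cancel, hax]
      | succ t ih =>
        intro j hj a ha hax
        by_cases hd : n + 1 ≤ j + (c₀ + c₁ + 1) + t
        · exact ih j hd a ha hax
        have hsum : ∑ i, a i * f i ∈ m ^ (j + (c₀ + c₁ + 1)) := by
          have e : ∑ i, a i * f i = x - ∑ i, a i * (f' i - f i) := by
            simp only [mul_sub, Finset.sum_sub_distrib]
            rw [hax, sub_sub_cancel]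
          rw [e]
          refine Ideal.sub_mem _ (Ideal.pow_le_pow_right (by omega) hxn) ?_
          rw [pow_add]
          exact sum_mul_mem ha hf
        obtain ⟨a₂, ha₂, h₂⟩ := h₀ (j + (c₀ + c₁ + 1)) _ (by rwa [smul_eq_mul, Ideal.mul_top])
          ((Submodule.mem_span_range_iff_exists_fun S).mpr ⟨a, rfl⟩)
        have ha₂' : ∀ i, a₂ i ∈ m ^ (j + 1) := fun i => Ideal.pow_le_pow_right (by omega) (ha₂ i)
        have hk : a - a₂ ∈ Submodule.span S (Set.range L) := by
          refine hL _ ?_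
          simp only [Pi.sub_apply, sub_mul, Finset.sum_sub_distrib]
          rw [sub_eq_zero]
          simpa only [smul_eq_mul] using h₂.symm
        obtain ⟨b, hb, hbL⟩ := h₁ j (a - a₂) (mem_smul_pi _ _ fun i =>
          Ideal.sub_mem _ (ha i) (Ideal.pow_le_pow_right (Nat.le_succ j) (ha₂' i))) hk
        have hbL' : ∀ i, ∑ l, b l * L l i = a i - a₂ i := fun i => by
          simpa [Finset.sum_apply] using congrFun hbL i
        refine ih (j + 1) (by omega) (fun i => a i - ∑ l, b l * L' l i) (fun i => ?_) ?_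
        · have e : a i - ∑ l, b l * L' l i = a₂ i - ∑ l, b l * (L' l i - L l i) := by
            simp only [mul_sub, Finset.sum_sub_distrib]
            rw [hbL']
            ring
          rw [e]
          refine Ideal.sub_mem _ (ha₂' i) (Ideal.pow_le_pow_right (show j + 1 ≤ (j - c₁) + (c₀ + c₁ + 1) by omega) ?_)
          rw [pow_add]
          exact sum_mul_mem hb (fun l => hLd l i)
        · simp only [sub_mul, Finset.sum_sub_distrib, Finset.sum_mul, hax]
          rw [Finset.sum_comm]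
          simp only [mul_assoc, ← Finset.mul_sum, hsyz, mul_zero, Finset.sum_const_zero, sub_zero]
    obtain ⟨a, hax⟩ := (Submodule.mem_span_range_iff_exists_fun S).mp hx
    exact Submodule.add_mem _ (key (n + 1) 0 (by omega) a (fun i => by rw [pow_zero, Ideal.one_eq_top]; trivial)
      (by simpa only [smul_eq_mul] using hax)) (Submodule.mem_sup_right hy)

end Groth.L14.GrApprox
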