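import Groth.Prelude.Def_AssocGr
import Groth.Agent.L14.GrApprox.Perturb

/-!
Associated graded rings of quotients with the same initial ideal.
-/

set_option autoImplicit false
set_option linter.style.haveILetI false

noncomputable section

open Polynomial

namespace Groth.L14.GrApprox

universe u

variable {A B : Type u} [CommRing A] [CommRing B]

/-- The map on Rees algebras composed with the projection to the associated graded ring. -/
theorem exists_grHom (φ : A →+* B) (I : Ideal A) (K : Ideal B) (hle : ∀ n, ∀ a ∈ I ^ n, φ a ∈ K ^ n)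
    (hden : ∀ n, ∀ b ∈ K ^ n, ∃ a ∈ I ^ n, b - φ a ∈ K ^ (n + 1)) :
    ∃ Φ : (FiltBl.IdealFiltration.adic I).rees →+* AssocGr.GrRing (FiltBl.IdealFiltration.adic K),
      Function.Surjective Φ ∧
      (∀ f : (FiltBl.IdealFiltration.adic I).rees, Φ f = 0 ↔ ∀ n, φ ((f : A[X]).coeff n) ∈ K ^ (n + 1)) ∧
      (∀ n, ∀ f ∈ Rees.deg (FiltBl.IdealFiltration.adic I).rees n,
        Φ f ∈ AssocGr.gr (FiltBl.IdealFiltration.adic K) n) ∧
      (∀ n, ∀ y ∈ AssocGr.gr (FiltBl.IdealFiltration.adic K) n,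
        ∃ f ∈ Rees.deg (FiltBl.IdealFiltration.adic I).rees n, Φ f = y) ∧
      ∀ a : A, Φ (algebraMap A _ a) = algebraMap B _ (φ a) := by
  let G := FiltBl.IdealFiltration.adic K
  let m : (FiltBl.IdealFiltration.adic I).rees →+* G.rees :=
    ((mapRingHom φ).comp (FiltBl.IdealFiltration.adic I).rees.val.toRingHom).codRestrict G.rees fun f => by
      rw [AssocGr.mem_rees_iff]
      intro n
      show ((f : A[X]).map φ).coeff n ∈ K ^ n
      rw [coeff_map]
      exact hle n _ (f.2 n)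
  let Φ : (FiltBl.IdealFiltration.adic I).rees →+* AssocGr.GrRing G := (AssocGr.mkG G).toRingHom.comp m
  have hm : ∀ f n, (m f : B[X]).coeff n = φ ((f : A[X]).coeff n) := fun f n => coeff_map _ _
  have hpiece : ∀ n, ∀ y ∈ AssocGr.gr G n, ∃ f ∈ Rees.deg (FiltBl.IdealFiltration.adic I).rees n, Φ f = y := by
    intro n y hy
    obtain ⟨b, hb⟩ := AssocGr.inDeg_surjective G n ⟨y, hy⟩
    obtain ⟨a, ha, hab⟩ := hden n b b.2
    let f := AssocGr.monom (FiltBl.IdealFiltration.adic I) n ⟨a, ha⟩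
    refine ⟨(f : (FiltBl.IdealFiltration.adic I).rees), f.2, ?_⟩
    rw [show y = (AssocGr.inDeg G n b : AssocGr.GrRing G) from (congrArg Subtype.val hb).symm, AssocGr.coe_inDeg]
    show AssocGr.mkG G (m f) = _
    rw [← sub_eq_zero, ← map_sub, AssocGr.mkG_eq_zero_iff, AssocGr.mem_succIdeal_iff]
    intro i
    rw [Subalgebra.coe_sub, coeff_sub, hm, AssocGr.coe_coe_monom, AssocGr.coe_coe_monom, coeff_monomial,
      coeff_monomial]
    show _ ∈ K ^ (i + 1)
    split_ifs with h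
    · subst h
      exact neg_sub (b : B) (φ a) ▸ neg_mem hab
    · rw [map_zero, sub_zero]
      exact zero_mem _
  refine ⟨Φ, fun y => ?_, fun f => ?_, fun n f hf => ?_, hpiece, fun a => ?_⟩
  · classical
    rw [← DirectSum.sum_support_decompose (AssocGr.gr G) y]
    show _ ∈ Set.range Φ
    refine (Φ.range).sum_mem fun n _ => ?_
    obtain ⟨f, -, hf⟩ := hpiece n _ (DirectSum.decompose (AssocGr.gr G) y n).2
    exact ⟨f, hf⟩
  · show AssocGr.mkG G (m f) = 0 ↔ _
    rw [AssocGr.mkG_eq_zero_iff, AssocGr.mem_succIdeal_iff]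
    exact forall_congr' fun n => by rw [hm]; rfl
  · refine AssocGr.mkG_mem_gr G ((Rees.mem_deg_iff _ _ _).mpr fun i hi => ?_)
    rw [hm, (Rees.mem_deg_iff _ _ _).mp hf i hi, map_zero]
  · show AssocGr.mkG G (m (algebraMap A _ a)) = _
    rw [show m (algebraMap A _ a) = algebraMap B G.rees (φ a) from
      Subtype.ext (by show (C a).map φ = C (φ a); rw [map_C]), AlgHom.commutes]

/-- Two quotients of a Rees algebra with the same kernel. -/
theorem exists_grEquiv {C : Type u} [CommRing C] {I : Ideal A} {K : Ideal B} {L : Ideal C}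
    {Φ : (FiltBl.IdealFiltration.adic I).rees →+* AssocGr.GrRing (FiltBl.IdealFiltration.adic K)}
    {Ψ : (FiltBl.IdealFiltration.adic I).rees →+* AssocGr.GrRing (FiltBl.IdealFiltration.adic L)}
    (hΦ : Function.Surjective Φ) (hΨ : Function.Surjective Ψ) (hker : ∀ f, Φ f = 0 ↔ Ψ f = 0)
    (hΦp : ∀ n, ∀ y ∈ AssocGr.gr (FiltBl.IdealFiltration.adic K) n,
      ∃ f ∈ Rees.deg (FiltBl.IdealFiltration.adic I).rees n, Φ f = y)
    (hΨd : ∀ n, ∀ f ∈ Rees.deg (FiltBl.IdealFiltration.adic I).rees n,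
      Ψ f ∈ AssocGr.gr (FiltBl.IdealFiltration.adic L) n) :
    ∃ e : AssocGr.GrRing (FiltBl.IdealFiltration.adic K) ≃+* AssocGr.GrRing (FiltBl.IdealFiltration.adic L),
      (∀ f, e (Φ f) = Ψ f) ∧
      ∀ n x, x ∈ AssocGr.gr (FiltBl.IdealFiltration.adic K) n → e x ∈ AssocGr.gr (FiltBl.IdealFiltration.adic L) n := by
  let e := (RingHom.quotientKerEquivOfSurjective hΦ).symm.trans
    ((Ideal.quotEquivOfEq (Ideal.ext fun f => hker f)).trans (RingHom.quotientKerEquivOfSurjective hΨ))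
  have he : ∀ f, e (Φ f) = Ψ f := fun f => by
    simp only [e, RingEquiv.trans_apply]
    rw [show (RingHom.quotientKerEquivOfSurjective hΦ).symm (Φ f) = Ideal.Quotient.mk _ f from
      (RingEquiv.symm_apply_eq _).mpr rfl]
    rfl
  refine ⟨e, he, fun n x hx => ?_⟩
  obtain ⟨f, hf, rfl⟩ := hΦp n x hx
  rw [he]
  exact hΨd n f hf

theorem exists_mem_of_map_pow {S R : Type u} [CommRing S] [CommRing R] (π : S →+* R) (hπ : Function.Surjective π)
    (M : Ideal S) (n : ℕ) {b : R} (hb : b ∈ M.map π ^ n) : ∃ a ∈ M ^ n, b = π a := by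
  rw [← Ideal.map_pow] at hb
  obtain ⟨a, ha, rfl⟩ := (Ideal.mem_map_iff_of_surjective π hπ).mp hb
  exact ⟨a, ha, rfl⟩

theorem map_mem_pow_iff {S R : Type u} [CommRing S] [CommRing R] (π : S →+* R) (hπ : Function.Surjective π)
    (M : Ideal S) (n : ℕ) (s : S) : π s ∈ M.map π ^ n ↔ s ∈ RingHom.ker π ⊔ M ^ n := by
  rw [← Ideal.map_pow, ← Ideal.mem_comap, Ideal.comap_map_of_surjective π hπ, sup_comm]
  rfl

/-- Quotients of one ring with the same initial ideal, one of them seen through an approximating ring. -/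
theorem exists_grEquiv_of_initial {S R T A : Type u} [CommRing S] [CommRing R] [CommRing T] [CommRing A]
    (M : Ideal S) (π : S →+* R) (hπ : Function.Surjective π) (π' : S →+* T) (hπ' : Function.Surjective π')
    (hin : ∀ n, ∀ g ∈ M ^ n, g ∈ RingHom.ker π ⊔ M ^ (n + 1) ↔ g ∈ RingHom.ker π' ⊔ M ^ (n + 1))
    (m : Ideal A) (θ : A →+* T) (hden : ∀ n (t : T), ∃ a : A, t - θ a ∈ M.map π' ^ n)
    (hker : ∀ n (a : A), θ a ∈ M.map π' ^ n ↔ a ∈ m ^ n) :
    ∃ e : AssocGr.GrRing (FiltBl.IdealFiltration.adic (M.map π)) ≃+* AssocGr.GrRing (FiltBl.IdealFiltration.adic m),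
      (∀ n x, x ∈ AssocGr.gr (FiltBl.IdealFiltration.adic (M.map π)) n →
        e x ∈ AssocGr.gr (FiltBl.IdealFiltration.adic m) n) ∧
      ∀ (s : S) (a : A), π' s = θ a → e (algebraMap R _ (π s)) = algebraMap A _ a := by
  obtain ⟨Φ, hΦs, hΦ0, hΦd, hΦp, hΦa⟩ := exists_grHom π M (M.map π)
    (fun n a ha => Ideal.map_pow π M n ▸ Ideal.mem_map_of_mem π ha)
    (fun n b hb => by
      obtain ⟨a, ha, rfl⟩ := exists_mem_of_map_pow π hπ M n hb
      exact ⟨a, ha, by rw [sub_self]; exact zero_mem _⟩)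
  obtain ⟨Ψ, hΨs, hΨ0, hΨd, hΨp, hΨa⟩ := exists_grHom π' M (M.map π')
    (fun n a ha => Ideal.map_pow π' M n ▸ Ideal.mem_map_of_mem π' ha)
    (fun n b hb => by
      obtain ⟨a, ha, rfl⟩ := exists_mem_of_map_pow π' hπ' M n hb
      exact ⟨a, ha, by rw [sub_self]; exact zero_mem _⟩)
  obtain ⟨Θ, hΘs, hΘ0, hΘd, hΘp, hΘa⟩ := exists_grHom θ m (M.map π') (fun n a ha => (hker n a).mpr ha)
    (fun n b hb => by
      obtain ⟨a, ha⟩ := hden (n + 1) b
      refine ⟨a, (hker n a).mp ?_, ha⟩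
      have := Ideal.sub_mem _ hb (Ideal.pow_le_pow_right (Nat.le_succ n) ha)
      rwa [sub_sub_cancel] at this)
  obtain ⟨e₁, he₁, he₁d⟩ := exists_grEquiv hΦs hΨs (fun f => by
    rw [hΦ0, hΨ0]
    refine forall_congr' fun n => ?_
    rw [map_mem_pow_iff π hπ, map_mem_pow_iff π' hπ']
    exact hin n _ (f.2 n)) hΦp hΨd
  obtain ⟨e₂, he₂, he₂d⟩ := exists_grEquiv (Φ := Θ) (Ψ := (AssocGr.mkG (FiltBl.IdealFiltration.adic m)).toRingHom)
    hΘs (AssocGr.mkG_surjective _) (fun f => by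
      rw [hΘ0, AlgHom.toRingHom_eq_coe, RingHom.coe_coe, AssocGr.mkG_eq_zero_iff, AssocGr.mem_succIdeal_iff]
      exact forall_congr' fun n => hker (n + 1) _) hΘp (fun n f hf => AssocGr.mkG_mem_gr _ hf)
  refine ⟨e₁.trans e₂, fun n x hx => he₂d n _ (he₁d n x hx), fun s a hsa => ?_⟩
  show e₂ (e₁ (algebraMap R _ (π s))) = _
  rw [← hΦa, he₁, hΨa, hsa, ← hΘa, he₂]
  exact (AssocGr.mkG _).commutes a

end Groth.L14.GrApprox
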