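import Groth.Agent.L14.GrApprox.Algebraize
import Groth.Agent.L14.Popescu.SchemeEtale
import Mathlib.RingTheory.AdicCompletion.LocalRing
import Mathlib.RingTheory.Artinian.Ring

/-!
Algebraization of versal elements of finitary functors.
-/

set_option autoImplicit false
set_option linter.style.haveILetI false

noncomputable section

open CategoryTheory CategoryTheory.Limits IsLocalRing

namespace Groth.L14.GrApprox

universe u

theorem isNoetherianRing_rees {A : Type u} [CommRing A] [IsNoetherianRing A] (I : Ideal A) :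
    IsNoetherianRing (FiltBl.IdealFiltration.adic I).rees := by
  have h : (FiltBl.IdealFiltration.adic I).rees = reesAlgebra I := by
    ext f
    rw [AssocGr.mem_rees_iff, mem_reesAlgebra_iff]
    rfl
  rw [h]
  infer_instance

theorem isNoetherianRing_gr {A : Type u} [CommRing A] [IsNoetherianRing A] (I : Ideal A) :
    IsNoetherianRing (AssocGr.GrRing (FiltBl.IdealFiltration.adic I)) :=
  haveI := isNoetherianRing_rees I
  isNoetherianRing_of_surjective _ _ (AssocGr.mkG (FiltBl.IdealFiltration.adic I)).toRingHom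
    (AssocGr.mkG_surjective _)

/-- A map surjective modulo the square of the ideal between rings with isomorphic graded rings is bijective. -/
theorem bijective_of_grEquiv {R Ah : Type u} [CommRing R] [IsNoetherianRing R] [CommRing Ah] (I : Ideal R) (K : Ideal Ah)
    [IsPrecomplete I R] [IsHausdorff I R] [IsHausdorff K Ah] (α : R →+* Ah) (hIK : I.map α ≤ K)
    (hres : ∀ b : Ah, ∃ r, b - α r ∈ K) (hK : K ≤ I.map α ⊔ K ^ 2) {A : Type u} [CommRing A] (m : Ideal A)
    (γ : A →+* Ah) (hγden : ∀ n (t : Ah), ∃ a : A, t - γ a ∈ K ^ n) (hγker : ∀ n (a : A), γ a ∈ K ^ n ↔ a ∈ m ^ n)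
    (e : AssocGr.GrRing (FiltBl.IdealFiltration.adic I) ≃+* AssocGr.GrRing (FiltBl.IdealFiltration.adic m)) :
    Function.Bijective α := by
  have hstep := exists_step α I K hres hIK hK
  obtain ⟨hsurj, -, -⟩ := Groth.L05.AdicGr.surjective_of_grMap_surjective hIK hstep
  refine ⟨(injective_iff_map_eq_zero α).mpr fun r hr => ?_, hsurj⟩
  have hle : ∀ n, ∀ a ∈ I ^ n, α a ∈ K ^ n := fun n a ha =>
    Ideal.pow_right_mono hIK n (Ideal.map_pow α I n ▸ Ideal.mem_map_of_mem α ha)
  obtain ⟨Φ, hΦs, hΦ0, -, -, -⟩ := exists_grHom α I K hle hstep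
  obtain ⟨Θ, hΘs, hΘ0, hΘd, hΘp, -⟩ := exists_grHom γ m K (fun n a ha => (hγker n a).mpr ha) (fun n b hb => by
    obtain ⟨a, ha⟩ := hγden (n + 1) b
    refine ⟨a, (hγker n a).mp ?_, ha⟩
    have := Ideal.sub_mem _ hb (Ideal.pow_le_pow_right (Nat.le_succ n) ha)
    rwa [sub_sub_cancel] at this)
  obtain ⟨e₂, -, -⟩ := exists_grEquiv (Φ := Θ) (Ψ := (AssocGr.mkG (FiltBl.IdealFiltration.adic m)).toRingHom)
    hΘs (AssocGr.mkG_surjective _) (fun f => by
      rw [hΘ0, AlgHom.toRingHom_eq_coe, RingHom.coe_coe, AssocGr.mkG_eq_zero_iff, AssocGr.mem_succIdeal_iff]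
      exact forall_congr' fun n => hγker (n + 1) _) hΘp (fun n f hf => AssocGr.mkG_mem_gr _ hf)
  haveI := isNoetherianRing_gr I
  let G := AssocGr.GrRing (FiltBl.IdealFiltration.adic I)
  let mk := (AssocGr.mkG (FiltBl.IdealFiltration.adic I)).toRingHom
  let Φ' : G →+* AssocGr.GrRing (FiltBl.IdealFiltration.adic K) :=
    RingHom.liftOfSurjective mk (AssocGr.mkG_surjective _) ⟨Φ, fun f hf => by
      rw [RingHom.mem_ker] at hf ⊢
      rw [hΦ0]
      exact fun n => hle (n + 1) _ ((AssocGr.mem_succIdeal_iff _ _).mp ((AssocGr.mkG_eq_zero_iff _ _).mp hf) n)⟩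
  have hΦ' : ∀ f, Φ' (mk f) = Φ f := fun f => RingHom.liftOfRightInverse_comp_apply _ _ _ _ f
  let endo : G →+* G := e.symm.toRingHom.comp (e₂.toRingHom.comp Φ')
  have hes : Function.Surjective endo := e.symm.surjective.comp (e₂.surjective.comp fun y => by
    obtain ⟨f, rfl⟩ := hΦs y
    exact ⟨mk f, hΦ' f⟩)
  have hinj : Function.Injective Φ' := fun x y h =>
    Popescu.injective_of_surjective_endo endo hes (congrArg (fun z => e.symm (e₂ z)) h)
  refine IsHausdorff.haus (inferInstance : IsHausdorff I R) r fun n => ?_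
  rw [SModEq.zero, smul_eq_mul, Ideal.mul_top]
  induction n with
  | zero => rw [pow_zero, Ideal.one_eq_top]; trivial
  | succ n ih =>
    let f : (FiltBl.IdealFiltration.adic I).rees := (AssocGr.monom (FiltBl.IdealFiltration.adic I) n ⟨r, ih⟩).1
    have h0 : Φ f = 0 := (hΦ0 f).mpr fun i => by
      rw [AssocGr.coe_coe_monom, Polynomial.coeff_monomial]
      split_ifs
      · show α r ∈ _
        rw [hr]
        exact zero_mem _
      · rw [map_zero]; exact zero_mem _
    have h1 : mk f = 0 := hinj (by rw [hΦ', h0, map_zero])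
    have h2 := (AssocGr.mem_succIdeal_iff _ _).mp ((AssocGr.mkG_eq_zero_iff _ _).mp h1) n
    rw [AssocGr.coe_coe_monom, Polynomial.coeff_monomial, if_pos rfl] at h2
    exact h2

set_option maxHeartbeats 1000000 in
/-- A versal element of a finitary functor over a complete local ring is algebraizable. -/
theorem exists_algebraization {k : Type u} [Field k]
    (F : CommAlgCat.{u} k ⥤ Type u)
    (hF : ∀ (J : Type u) [SmallCategory J] [IsFiltered J], PreservesColimitsOfShape J F)
    (R : Type u) [CommRing R] [Algebra k R] [IsLocalRing R] [IsNoetherianRing R] [IsAdicComplete (maximalIdeal R) R]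
    (hres : Function.Surjective (fun c : k => residue R (algebraMap k R c))) (ξ : F.obj (CommAlgCat.of k R))
    (hvers : ∀ (B B₀ : Type u) [CommRing B] [Algebra k B] [IsLocalRing B] [IsArtinianRing B]
        [CommRing B₀] [Algebra k B₀] [IsLocalRing B₀] [IsArtinianRing B₀],
        Function.Surjective (fun c : k => residue B (algebraMap k B c)) →
        ∀ (π : B →ₐ[k] B₀), Function.Surjective π →
          ∀ (g₀ : R →ₐ[k] B₀) (y : F.obj (CommAlgCat.of k B)),
            F.map (CommAlgCat.ofHom π) y = F.map (CommAlgCat.ofHom g₀) ξ →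
              ∃ g : R →ₐ[k] B, π.comp g = g₀ ∧ F.map (CommAlgCat.ofHom g) ξ = y) :
    ∃ (A : Type u) (_ : CommRing A) (_ : Algebra k A) (_ : Algebra.FiniteType k A)
      (m : Ideal A) (_ : m.IsMaximal)
      (_ : Function.Surjective (fun c : k => Ideal.Quotient.mk m (algebraMap k A c)))
      (η : F.obj (CommAlgCat.of k A))
      (α : R ≃+* AdicCompletion m A),
      (∀ c : k, α (algebraMap k R c) = algebraMap A (AdicCompletion m A) (algebraMap k A c)) ∧
      ∀ (n : ℕ) (ψ : R →ₐ[k] A ⧸ m ^ (n + 1)),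
        ψ.toRingHom = (AdicCompletion.evalₐ m (n + 1) :
            AdicCompletion m A →ₐ[A] A ⧸ m ^ (n + 1)).toRingHom.comp α.toRingHom →
          F.map (CommAlgCat.ofHom ψ) ξ = F.map (CommAlgCat.ofHom (Ideal.Quotient.mkₐ k (m ^ (n + 1)))) η := by
  obtain ⟨A, iA, iAk, hA, m, hm, hkm, η, φ, hφ, e, -, -⟩ := exists_graded_approx F hF R hres ξ 1
  haveI : IsNoetherianRing A := Algebra.FiniteType.isNoetherianRing k A
  have hfg : m.FG := IsNoetherian.noetherian _
  have hloc : ∀ n : ℕ, IsLocalRing (A ⧸ m ^ (n + 1)) := fun n => by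
    haveI : Nontrivial (A ⧸ m ^ (n + 1)) := Ideal.Quotient.nontrivial_iff.mpr
      (ne_top_of_le_ne_top hm.ne_top (Ideal.pow_le_self (Nat.succ_ne_zero n)))
    refine IsLocalRing.of_unique_max_ideal ⟨m.map (Ideal.Quotient.mk _), ?_, fun M hM => ?_⟩
    · exact (Ideal.map_eq_top_or_isMaximal_of_surjective _ Ideal.Quotient.mk_surjective hm).resolve_left fun h => by
        have h1 : (1 : A ⧸ m ^ (n + 1)) ∈ m.map (Ideal.Quotient.mk (m ^ (n + 1))) := h ▸ trivial
        obtain ⟨x, hx, hx1⟩ := (Ideal.mem_map_iff_of_surjective _ Ideal.Quotient.mk_surjective).mp h1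
        rw [← map_one (Ideal.Quotient.mk (m ^ (n + 1))), Ideal.Quotient.eq] at hx1
        have := Ideal.sub_mem _ hx (Ideal.pow_le_self (Nat.succ_ne_zero n) hx1)
        rw [sub_sub_cancel] at this
        exact hm.ne_top ((Ideal.eq_top_iff_one m).mpr this)
    · haveI := hM.isPrime
      have hle : m ≤ M.comap (Ideal.Quotient.mk (m ^ (n + 1))) := by
        refine (Ideal.IsPrime.pow_le_iff (Nat.succ_ne_zero n)).mp fun x hx => ?_
        show Ideal.Quotient.mk _ x ∈ M
        rw [Ideal.Quotient.eq_zero_iff_mem.mpr hx]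
        exact zero_mem _
      rw [← Ideal.map_comap_of_surjective _ Ideal.Quotient.mk_surjective M]
      exact congrArg (Ideal.map _) (hm.eq_of_le (Ideal.comap_ne_top _ hM.ne_top) hle).symm
  have hart : ∀ n : ℕ, IsArtinianRing (A ⧸ m ^ (n + 1)) := fun n => by
    haveI := hloc n
    haveI : Ring.KrullDimLE 0 (A ⧸ m ^ (n + 1)) := Ring.KrullDimLE.mk₀ fun p hp => by
      have h1 : maximalIdeal (A ⧸ m ^ (n + 1)) = p := by
        refine le_antisymm ?_ (le_maximalIdeal hp.ne_top)
        intro z hz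
        obtain ⟨a, rfl⟩ := Ideal.Quotient.mk_surjective z
        refine hp.mem_of_pow_mem (n + 1) ?_
        rw [← map_pow, Ideal.Quotient.eq_zero_iff_mem.mpr]
        · exact zero_mem _
        · refine Ideal.pow_mem_pow ?_ _
          by_contra h
          obtain ⟨b, i, hi, hbi⟩ := hm.exists_inv h
          have hu : IsUnit (Ideal.Quotient.mk (m ^ (n + 1)) (b * a)) := by
            rw [show b * a = 1 - i by rw [← hbi]; ring, map_sub, map_one]
            refine IsNilpotent.isUnit_one_sub ⟨n + 1, ?_⟩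
            rw [← map_pow, Ideal.Quotient.eq_zero_iff_mem]
            exact Ideal.pow_mem_pow hi _
          rw [map_mul] at hu
          exact hz (isUnit_of_mul_isUnit_right hu)
      exact h1 ▸ maximalIdeal.isMaximal _
    exact isArtinianRing_iff_isNoetherianRing_krullDimLE_zero.mpr ⟨inferInstance, inferInstance⟩
  have hres' : ∀ n : ℕ, letI := hloc n
      Function.Surjective (fun c : k => residue (A ⧸ m ^ (n + 1)) (algebraMap k _ c)) := fun n => by
    letI := hloc n
    intro z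
    obtain ⟨z, rfl⟩ := residue_surjective z
    obtain ⟨a, rfl⟩ := Ideal.Quotient.mk_surjective z
    obtain ⟨c, hc⟩ := hkm (Ideal.Quotient.mk m a)
    refine ⟨c, ?_⟩
    show residue _ (Ideal.Quotient.mk (m ^ (n + 1)) (algebraMap k A c)) = residue _ (Ideal.Quotient.mk _ a)
    rw [← sub_eq_zero, ← map_sub, residue_eq_zero_iff, ← map_sub, mem_maximalIdeal, mem_nonunits_iff]
    intro hu
    have h1 := Ideal.Quotient.eq.mp hc
    have h2 : IsNilpotent (Ideal.Quotient.mk (m ^ (n + 1)) (algebraMap k A c - a)) := ⟨n + 1, by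
      rw [← map_pow, Ideal.Quotient.eq_zero_iff_mem]
      exact Ideal.pow_mem_pow h1 _⟩
    exact h2.not_isUnit hu
  let ev : ∀ n : ℕ, (A ⧸ m ^ (n + 1 + 1 + 1)) →ₐ[k] (A ⧸ m ^ (n + 1 + 1)) := fun n =>
    Ideal.Quotient.factorₐ k (Ideal.pow_le_pow_right (by omega))
  have hstep : ∀ (n : ℕ) (g₀ : {g : R →ₐ[k] A ⧸ m ^ (n + 1 + 1) //
      F.map (CommAlgCat.ofHom g) ξ = F.map (CommAlgCat.ofHom (Ideal.Quotient.mkₐ k (m ^ (n + 1 + 1)))) η}),
      ∃ g : {g : R →ₐ[k] A ⧸ m ^ (n + 1 + 1 + 1) //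
        F.map (CommAlgCat.ofHom g) ξ = F.map (CommAlgCat.ofHom (Ideal.Quotient.mkₐ k (m ^ (n + 1 + 1 + 1)))) η},
        (ev n).comp g.1 = g₀.1 := by
    intro n g₀
    letI := hloc (n + 1 + 1)
    letI := hloc (n + 1)
    haveI := hart (n + 1 + 1)
    haveI := hart (n + 1)
    obtain ⟨g, hg, hgξ⟩ := hvers (A ⧸ m ^ (n + 1 + 1 + 1)) (A ⧸ m ^ (n + 1 + 1)) (hres' (n + 1 + 1)) (ev n)
      (Ideal.Quotient.factor_surjective (Ideal.pow_le_pow_right (by omega : n + 1 + 1 ≤ n + 1 + 1 + 1))) g₀.1 (F.map (CommAlgCat.ofHom (Ideal.Quotient.mkₐ k _)) η) (by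
        rw [← Functor.map_comp_apply, ← CommAlgCat.ofHom_comp, g₀.2]
        rfl)
    exact ⟨⟨g, hgξ⟩, hg⟩
  choose next hnext using hstep
  let G : ∀ n : ℕ, {g : R →ₐ[k] A ⧸ m ^ (n + 1 + 1) //
      F.map (CommAlgCat.ofHom g) ξ = F.map (CommAlgCat.ofHom (Ideal.Quotient.mkₐ k (m ^ (n + 1 + 1)))) η} :=
    fun n => Nat.rec ⟨φ.toAlgHom.comp (Ideal.Quotient.mkₐ k _), hφ⟩ next n
  let f : ∀ n : ℕ, R →+* A ⧸ m ^ n := fun n =>
    (Ideal.Quotient.factor (Ideal.pow_le_pow_right (by omega : n ≤ n + 1 + 1))).comp (G n).1.toRingHom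
  have hcomp : ∀ (n : ℕ) (x : R), Ideal.Quotient.factor (Ideal.pow_le_pow_right (Nat.le_succ (n + 1 + 1)))
      ((G (n + 1)).1 x) = (G n).1 x := fun n x => AlgHom.congr_fun (hnext n (G n)) x
  have hG : ∀ (d n : ℕ) (x : R), Ideal.Quotient.factor (Ideal.pow_le_pow_right (by omega : n + 1 + 1 ≤ n + d + 1 + 1))
      ((G (n + d)).1 x) = (G n).1 x := by
    intro d
    induction d with
    | zero => intro n x; simp
    | succ d ih =>
      intro n x
      rw [← ih n x, ← hcomp (n + d) x, Ideal.Quotient.factor_comp_apply]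
      rfl
  have hcompat : ∀ {a b : ℕ} (hle : a ≤ b), (Ideal.Quotient.factorPow m hle).comp (f b) = f a := by
    intro a b hle
    obtain ⟨d, rfl⟩ := Nat.exists_eq_add_of_le hle
    refine RingHom.ext fun x => ?_
    show Ideal.Quotient.factor (Ideal.pow_le_pow_right hle) (Ideal.Quotient.factor (Ideal.pow_le_pow_right (by omega : a + d ≤ a + d + 1 + 1)) ((G (a + d)).1 x)) =
      Ideal.Quotient.factor (Ideal.pow_le_pow_right (by omega : a ≤ a + 1 + 1)) ((G a).1 x)
    rw [← hG d a x, Ideal.Quotient.factor_comp_apply, Ideal.Quotient.factor_comp_apply]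
  let Ah := AdicCompletion m A
  let K : Ideal Ah := m.map (algebraMap A Ah)
  let α : R →+* Ah := AdicCompletion.liftRingHom m f hcompat
  have hα : ∀ n x, AdicCompletion.evalₐ m n (α x) = f n x := fun n x => AdicCompletion.evalₐ_liftRingHom m f hcompat n x
  have hK : ∀ (n : ℕ) (t : Ah), t ∈ K ^ n ↔ AdicCompletion.evalₐ m n t = 0 := fun n t => by
    rw [Popescu.evalₐ_eq_zero_iff hfg, Ideal.map_pow]
  have hγker : ∀ n (a : A), algebraMap A Ah a ∈ K ^ n ↔ a ∈ m ^ n := fun n a => by
    rw [hK, AlgHom.commutes, Ideal.Quotient.algebraMap_eq, Ideal.Quotient.eq_zero_iff_mem]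
  have hγden : ∀ n (t : Ah), ∃ a : A, t - algebraMap A Ah a ∈ K ^ n := fun n t => by
    obtain ⟨a, ha⟩ := Ideal.Quotient.mk_surjective (AdicCompletion.evalₐ m n t)
    exact ⟨a, by rw [hK, map_sub, AlgHom.commutes, Ideal.Quotient.algebraMap_eq, ha, sub_self]⟩
  have hG0 : ∀ x, f 2 x = φ (Ideal.Quotient.mk _ x) := fun x => by
    show Ideal.Quotient.factor (Ideal.pow_le_pow_right (by omega : 2 ≤ 2 + 1 + 1)) ((G 2).1 x) = _
    exact hG 2 0 x
  have hk : ∀ c : k, α (algebraMap k R c) = algebraMap A Ah (algebraMap k A c) := fun c => by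
    refine AdicCompletion.ext_evalₐ fun n => ?_
    rw [hα, AlgHom.commutes]
    show Ideal.Quotient.factor (Ideal.pow_le_pow_right (by omega : n ≤ n + 1 + 1)) ((G n).1 (algebraMap k R c)) = _
    rw [(G n).1.commutes]
    rfl
  have hmR : ∀ r ∈ maximalIdeal R, α r ∈ K := by
    intro r hr
    rw [← pow_one K, hK, hα]
    have h1 : f 1 r = Ideal.Quotient.factor (Ideal.pow_le_pow_right (by omega : 1 ≤ 2)) (f 2 r) :=
      (RingHom.congr_fun (hcompat (a := 1) (b := 2) (by omega)) r).symm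
    rw [h1, hG0]
    obtain ⟨a, ha⟩ := Ideal.Quotient.mk_surjective (φ (Ideal.Quotient.mk _ r))
    rw [← ha, Ideal.Quotient.factor_mk, Ideal.Quotient.eq_zero_iff_mem, pow_one]
    by_contra hna
    have h2 : IsNilpotent (φ (Ideal.Quotient.mk (maximalIdeal R ^ 2) r)) :=
      IsNilpotent.map (⟨2, by rw [← map_pow, Ideal.Quotient.eq_zero_iff_mem]; exact Ideal.pow_mem_pow hr _⟩ :
        IsNilpotent (Ideal.Quotient.mk (maximalIdeal R ^ 2) r)) φ
    rw [← ha] at h2
    obtain ⟨s, hs⟩ := h2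
    rw [← map_pow, Ideal.Quotient.eq_zero_iff_mem] at hs
    exact hna (hm.isPrime.mem_of_pow_mem s (Ideal.pow_le_self two_ne_zero hs))
  have hb : Function.Bijective α := by
    haveI : IsHausdorff K Ah := by
      constructor
      intro t ht
      refine AdicCompletion.ext_evalₐ fun n => ?_
      have := ht n
      rw [SModEq.zero, smul_eq_mul, Ideal.mul_top, hK] at this
      rw [this, map_zero]
    refine bijective_of_grEquiv (maximalIdeal R) K α (Ideal.map_le_iff_le_comap.mpr hmR) (fun t => ?_) ?_ m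
      (algebraMap A Ah) hγden hγker e
    · obtain ⟨a, ha⟩ := hγden 1 t
      rw [pow_one] at ha
      obtain ⟨c, hc⟩ := hkm (Ideal.Quotient.mk m a)
      refine ⟨algebraMap k R c, ?_⟩
      rw [hk]
      have h2 := Ideal.mem_map_of_mem (algebraMap A Ah) (Ideal.Quotient.eq.mp hc.symm)
      rw [map_sub] at h2
      have := K.add_mem ha h2
      rwa [sub_add_sub_cancel] at this
    · intro t ht
      obtain ⟨a, ha⟩ := Ideal.Quotient.mk_surjective (AdicCompletion.evalₐ m 2 t)
      obtain ⟨w, hw⟩ := φ.surjective (Ideal.Quotient.mk _ a)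
      obtain ⟨r, rfl⟩ := Ideal.Quotient.mk_surjective w
      have h2 : t - α r ∈ K ^ 2 := by
        rw [hK, map_sub, hα, hG0, hw, ha, sub_self]
      refine Submodule.mem_sup.mpr ⟨α r, Ideal.mem_map_of_mem α ?_, t - α r, h2, add_sub_cancel _ _⟩
      by_contra hr
      have h3 : α r ∈ K := by
        have := Ideal.sub_mem _ ht (Ideal.pow_le_self two_ne_zero h2)
        rwa [sub_sub_cancel] at this
      have hur : IsUnit r := not_not.mp hr
      have h4 := Ideal.eq_top_of_isUnit_mem _ h3 (hur.map α)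
      have h5 : algebraMap A Ah 1 ∈ K ^ 1 := by rw [pow_one, h4]; trivial
      have h6 := (hγker 1 1).mp h5
      rw [pow_one] at h6
      exact hm.ne_top ((Ideal.eq_top_iff_one m).mpr h6)
  refine ⟨A, iA, iAk, hA, m, hm, hkm, η, RingEquiv.ofBijective α hb, hk, fun n ψ hψ => ?_⟩
  let T : (A ⧸ m ^ (n + 1 + 1 + 1)) →ₐ[k] A ⧸ m ^ (n + 1) :=
    Ideal.Quotient.factorₐ k (Ideal.pow_le_pow_right (by omega))
  have h1 : ψ = T.comp (G (n + 1)).1 := AlgHom.ext fun x => by
    show ψ.toRingHom x = _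
    rw [hψ]
    exact hα (n + 1) x
  rw [h1, CommAlgCat.ofHom_comp, Functor.map_comp_apply, (G (n + 1)).2, ← Functor.map_comp_apply,
    ← CommAlgCat.ofHom_comp]
  rfl

end Groth.L14.GrApprox
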